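import Mathlib
import Cfsg.Prelude.Def_LieRecognition

/-!
An involution acting on a subgroup of odd order: square roots, the decomposition
`X = C_X(t) * {inverted elements}`, and generation by centralisers of a four-group.
-/

set_option autoImplicit false

namespace Cfsg.Agent.RankOne

variable {M : Type*} [Group M]

theorem exists_sqrt {X : Subgroup M} (hodd : Odd (Nat.card X)) {x : M} (hx : x ∈ X) :
    ∃ y ∈ Subgroup.zpowers x, y * y = x := by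
  obtain ⟨j, hj⟩ := hodd
  refine ⟨x ^ (j + 1), Subgroup.npow_mem_zpowers x _, ?_⟩
  have h1 : x ^ (2 * j + 1) = 1 := by
    rw [← hj]
    exact congrArg Subtype.val (pow_card_eq_one' (x := (⟨x, hx⟩ : X)))
  rw [← pow_add, show j + 1 + (j + 1) = (2 * j + 1) + 1 by omega, pow_succ, h1, one_mul]

theorem eq_of_sq_eq {X : Subgroup M} (hodd : Odd (Nat.card X)) {x y : M} (hx : x ∈ X) (hy : y ∈ X)
    (h : x * x = y * y) : x = y := by
  obtain ⟨j, hj⟩ := hodd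
  have h1 : ∀ z ∈ X, z ^ (2 * j + 1) = 1 := fun z hz => by
    rw [← hj]
    exact congrArg Subtype.val (pow_card_eq_one' (x := (⟨z, hz⟩ : X)))
  have h2 : ∀ z ∈ X, (z * z) ^ (j + 1) = z := fun z hz => by
    rw [← pow_two, ← pow_mul, show 2 * (j + 1) = (2 * j + 1) + 1 by omega, pow_succ, h1 z hz,
      one_mul]
  rw [← h2 x hx, ← h2 y hy, h]

theorem eq_one_of_sq_eq_one {X : Subgroup M} (hodd : Odd (Nat.card X)) {x : M} (hx : x ∈ X)
    (h : x * x = 1) : x = 1 :=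
  eq_of_sq_eq hodd hx (one_mem X) (by rw [h, one_mul])

theorem commute_of_commute_sq {X : Subgroup M} (hodd : Odd (Nat.card X)) {x c : M} (hx : x ∈ X)
    (h : Commute c (x * x)) : Commute c x := by
  obtain ⟨j, hj⟩ := hodd
  have h1 : x ^ (2 * j + 1) = 1 := by
    rw [← hj]
    exact congrArg Subtype.val (pow_card_eq_one' (x := (⟨x, hx⟩ : X)))
  have h2 : (x * x) ^ (j + 1) = x := by
    rw [← pow_two, ← pow_mul, show 2 * (j + 1) = (2 * j + 1) + 1 by omega, pow_succ, h1, one_mul]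
  rw [← h2]
  exact h.pow_right _

theorem conj_zpowers_inv {t z y : M} (hz : t * z * t⁻¹ = z⁻¹) (hy : y ∈ Subgroup.zpowers z) :
    t * y * t⁻¹ = y⁻¹ := by
  obtain ⟨k, rfl⟩ := Subgroup.mem_zpowers_iff.1 hy
  rw [← conj_zpow, hz, inv_zpow]

theorem conj_zpowers_fix {t z y : M} (hz : t * z * t⁻¹ = z) (hy : y ∈ Subgroup.zpowers z) :
    t * y * t⁻¹ = y := by
  obtain ⟨k, rfl⟩ := Subgroup.mem_zpowers_iff.1 hy
  rw [← conj_zpow, hz]

theorem invol_inv {t : M} (ht : t * t = 1) : t⁻¹ = t := inv_eq_of_mul_eq_one_right ht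

theorem invol_conj_conj {t : M} (ht : t * t = 1) (x : M) : t * (t * x * t⁻¹) * t⁻¹ = x := by
  rw [invol_inv ht, ← mul_assoc, ← mul_assoc, ht, one_mul, mul_assoc, ht, mul_one]

/-- `x = c * p` with `c` fixed by `t` and `p` inverted by `t`. -/
theorem exists_fix_mul_inverted {X : Subgroup M} (hodd : Odd (Nat.card X)) {t : M}
    (ht : t * t = 1) (hn : ∀ x ∈ X, t * x * t⁻¹ ∈ X) {x : M} (hx : x ∈ X) :
    ∃ c p : M, c ∈ X ∧ t * c * t⁻¹ = c ∧ p ∈ X ∧ t * p * t⁻¹ = p⁻¹ ∧ x = c * p := by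
  have hzX : (t * x * t⁻¹)⁻¹ * x ∈ X := mul_mem (inv_mem (hn x hx)) hx
  have hz : t * ((t * x * t⁻¹)⁻¹ * x) * t⁻¹ = ((t * x * t⁻¹)⁻¹ * x)⁻¹ := by
    calc t * ((t * x * t⁻¹)⁻¹ * x) * t⁻¹
        = (t * (t * x * t⁻¹) * t⁻¹)⁻¹ * (t * x * t⁻¹) := by simp only [mul_inv_rev, inv_inv, mul_assoc, inv_mul_cancel_left]
      _ = x⁻¹ * (t * x * t⁻¹) := by rw [invol_conj_conj ht]
      _ = ((t * x * t⁻¹)⁻¹ * x)⁻¹ := by rw [mul_inv_rev, inv_inv]
  obtain ⟨p, hp, hpp⟩ := exists_sqrt hodd hzX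
  have hpX : p ∈ X := Subgroup.zpowers_le.2 hzX hp
  have hpt : t * p * t⁻¹ = p⁻¹ := conj_zpowers_inv hz hp
  refine ⟨x * p⁻¹, p, mul_mem hx (inv_mem hpX), ?_, hpX, hpt, by group⟩
  have htx : t * x * t⁻¹ = x * (p * p)⁻¹ := by rw [hpp]; group
  calc t * (x * p⁻¹) * t⁻¹ = (t * x * t⁻¹) * (t * p * t⁻¹)⁻¹ := by group
    _ = x * (p * p)⁻¹ * p := by rw [htx, hpt, inv_inv]
    _ = x * p⁻¹ := by group

theorem fix_mul_inverted_unique {X : Subgroup M} (hodd : Odd (Nat.card X)) {t c c' p p' : M}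
    (hp : p ∈ X) (hp' : p' ∈ X) (hc : t * c * t⁻¹ = c) (hc' : t * c' * t⁻¹ = c')
    (hpt : t * p * t⁻¹ = p⁻¹) (hpt' : t * p' * t⁻¹ = p'⁻¹) (h : c * p = c' * p') :
    c = c' ∧ p = p' := by
  have h1 : c * p⁻¹ = c' * p'⁻¹ := by
    calc c * p⁻¹ = (t * c * t⁻¹) * (t * p * t⁻¹) := by rw [hc, hpt]
      _ = t * (c * p) * t⁻¹ := by group
      _ = t * (c' * p') * t⁻¹ := by rw [h]
      _ = (t * c' * t⁻¹) * (t * p' * t⁻¹) := by group
      _ = c' * p'⁻¹ := by rw [hc', hpt']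
  have h2 : p * p = p' * p' := by
    calc p * p = (c * p⁻¹)⁻¹ * (c * p) := by group
      _ = (c' * p'⁻¹)⁻¹ * (c' * p') := by rw [h1, h]
      _ = p' * p' := by group
  have h3 := eq_of_sq_eq hodd hp hp' h2
  subst h3
  exact ⟨mul_right_cancel h, rfl⟩

/-- A four-group normalising a group of odd order: it is generated by the three centralisers. -/
theorem le_of_four_group_centralizers {K H : Subgroup M} (hodd : Odd (Nat.card K)) {x y : M}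
    (hx : x * x = 1) (hy : y * y = 1) (hxy : x * y = y * x)
    (hnx : ∀ k ∈ K, x * k * x⁻¹ ∈ K) (hny : ∀ k ∈ K, y * k * y⁻¹ ∈ K)
    (hHx : ∀ k ∈ K, x * k * x⁻¹ = k → k ∈ H) (hHy : ∀ k ∈ K, y * k * y⁻¹ = k → k ∈ H)
    (hHxy : ∀ k ∈ K, (x * y) * k * (x * y)⁻¹ = k → k ∈ H) : K ≤ H := by
  intro k hk
  obtain ⟨c, i, hc, hcx, hi, hix, rfl⟩ := exists_fix_mul_inverted hodd hx hnx hk
  refine mul_mem (hHx c hc hcx) ?_
  obtain ⟨d, j, hd, hdy, hj, hjy, rfl⟩ := exists_fix_mul_inverted hodd hy hny hi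
  have hdH : d ∈ H := hHy d hd hdy
  refine mul_mem hdH ?_
  have e1 : y * (x * d * x⁻¹) * y⁻¹ = x * d * x⁻¹ := by
    calc y * (x * d * x⁻¹) * y⁻¹ = (y * x) * d * (y * x)⁻¹ := by group
      _ = (x * y) * d * (x * y)⁻¹ := by rw [hxy]
      _ = x * (y * d * y⁻¹) * x⁻¹ := by group
      _ = x * d * x⁻¹ := by rw [hdy]
  have e2 : y * (x * j * x⁻¹) * y⁻¹ = (x * j * x⁻¹)⁻¹ := by
    calc y * (x * j * x⁻¹) * y⁻¹ = (y * x) * j * (y * x)⁻¹ := by group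
      _ = (x * y) * j * (x * y)⁻¹ := by rw [hxy]
      _ = x * (y * j * y⁻¹) * x⁻¹ := by group
      _ = (x * j * x⁻¹)⁻¹ := by rw [hjy]; group
  have e3 : y * (d * j⁻¹ * d⁻¹) * y⁻¹ = (d * j⁻¹ * d⁻¹)⁻¹ := by
    calc y * (d * j⁻¹ * d⁻¹) * y⁻¹
        = (y * d * y⁻¹) * (y * j * y⁻¹)⁻¹ * (y * d * y⁻¹)⁻¹ := by group
      _ = (d * j⁻¹ * d⁻¹)⁻¹ := by rw [hdy, hjy]; group
  have e4 : y * d⁻¹ * y⁻¹ = d⁻¹ := by
    calc y * d⁻¹ * y⁻¹ = (y * d * y⁻¹)⁻¹ := by group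
      _ = d⁻¹ := by rw [hdy]
  have e5 : (x * d * x⁻¹) * (x * j * x⁻¹) = d⁻¹ * (d * j⁻¹ * d⁻¹) := by
    calc (x * d * x⁻¹) * (x * j * x⁻¹) = x * (d * j) * x⁻¹ := by group
      _ = (d * j)⁻¹ := hix
      _ = d⁻¹ * (d * j⁻¹ * d⁻¹) := by group
  obtain ⟨f1, f2⟩ := fix_mul_inverted_unique hodd (hnx j hj)
    (mul_mem (mul_mem hd (inv_mem hj)) (inv_mem hd)) e1 e4 e2 e3 e5
  obtain ⟨e, he, hee⟩ := exists_sqrt hodd hd
  have heX : e ∈ K := Subgroup.zpowers_le.2 hd he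
  have heH : e ∈ H := Subgroup.zpowers_le.2 hdH he
  have hex : x * e * x⁻¹ = e⁻¹ := conj_zpowers_inv f1 he
  have hey : y * e * y⁻¹ = e := conj_zpowers_fix hdy he
  have hexy : (x * y) * e * (x * y)⁻¹ = e⁻¹ := by
    calc (x * y) * e * (x * y)⁻¹ = x * (y * e * y⁻¹) * x⁻¹ := by group
      _ = e⁻¹ := by rw [hey, hex]
  have hjxy : (x * y) * j * (x * y)⁻¹ = d * j * d⁻¹ := by
    calc (x * y) * j * (x * y)⁻¹ = x * (y * j * y⁻¹) * x⁻¹ := by group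
      _ = (x * j * x⁻¹)⁻¹ := by rw [hjy]; group
      _ = d * j * d⁻¹ := by rw [f2]; group
  have hu : (x * y) * (e * j * e⁻¹) * (x * y)⁻¹ = e * j * e⁻¹ := by
    calc (x * y) * (e * j * e⁻¹) * (x * y)⁻¹
        = ((x * y) * e * (x * y)⁻¹) * ((x * y) * j * (x * y)⁻¹) *
            ((x * y) * e * (x * y)⁻¹)⁻¹ := by group
      _ = e⁻¹ * (d * j * d⁻¹) * e := by rw [hexy, hjxy, inv_inv]
      _ = e * j * e⁻¹ := by rw [← hee]; group
  have := hHxy _ (mul_mem (mul_mem heX hj) (inv_mem heX)) hu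
  have h2 := mul_mem (mul_mem (inv_mem heH) this) heH
  have e6 : e⁻¹ * (e * j * e⁻¹) * e = j := by group
  rwa [e6] at h2

end Cfsg.Agent.RankOne
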