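import Cfsg.Agent.Lib.RankOne.Setup

/-!
Uniqueness of the canonical form `g h t f` (`g, f ∈ Q`, `h ∈ D`) in the rank-one set-up.
-/

set_option autoImplicit false

namespace Cfsg.Agent.RankOne

open MulAction

variable {G Ω : Type*} [Group G] [MulAction G Ω] {a : Ω} {t : G} {Q : Subgroup G}

theorem t_mul_cancel (hS : IsRankOneSetup G Ω a t Q) (x : G) : t * (t * x) = x := by
  rw [← mul_assoc, hS.mul_self, one_mul]

theorem conj_twoPt' (hS : IsRankOneSetup G Ω a t Q) {d : G} (hd : d ∈ twoPt G a t) :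
    t * d * t ∈ twoPt G a t := by
  have := conj_twoPt hS hd
  rwa [t_inv hS] at this

theorem conj_mem' (hS : IsRankOneSetup G Ω a t Q) {d : G} (hd : d ∈ twoPt G a t) {x : G}
    (hx : x ∈ Q) : d * x * d⁻¹ ∈ Q := hS.conj_mem d hd.1 x hx

theorem conj_mem_inv (hS : IsRankOneSetup G Ω a t Q) {d : G} (hd : d ∈ twoPt G a t) {x : G}
    (hx : x ∈ Q) : d⁻¹ * x * d ∈ Q := by
  simpa using hS.conj_mem d⁻¹ (inv_mem hd.1) x hx

/-- The canonical form is unique. -/
theorem canonical_unique (hS : IsRankOneSetup G Ω a t Q) {g h f g' h' f' : G} (hg : g ∈ Q)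
    (hh : h ∈ twoPt G a t) (hf : f ∈ Q) (hg' : g' ∈ Q) (hh' : h' ∈ twoPt G a t) (hf' : f' ∈ Q)
    (e : g * h * t * f = g' * h' * t * f') : g = g' ∧ h = h' ∧ f = f' := by
  have e1 : g = g' := by
    have h1 := congrArg (fun u : G => u • a) e
    simp only [mul_smul, smul_self_of_mem hS hf, smul_self_of_mem hS hf'] at h1
    have e2 : h • t • a = t • a := hh.2
    have e3 : h' • t • a = t • a := hh'.2
    rw [e2, e3] at h1
    exact q_unique hS (ta_ne hS) hg hg' h1
  subst e1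
  simp only [mul_assoc] at e
  have e' := mul_left_cancel e
  have hm : f * f'⁻¹ ∈ Q ⊓ stabilizer G (t • a) := by
    refine Subgroup.mem_inf.2 ⟨mul_mem hf (inv_mem hf'), ?_⟩
    have : f * f'⁻¹ = t * (h⁻¹ * h') * t := by
      have e4 : t * f = h⁻¹ * (h' * (t * f')) := by rw [← e', inv_mul_cancel_left]
      calc f * f'⁻¹ = t * (t * f) * f'⁻¹ := by rw [t_mul_cancel hS]
        _ = t * (h⁻¹ * h') * t := by rw [e4]; group
    rw [this]
    exact (conj_twoPt' hS (mul_mem (inv_mem hh) hh')).2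
  rw [hS.inf_eq_bot, Subgroup.mem_bot, mul_inv_eq_one] at hm
  subst hm
  exact ⟨rfl, mul_right_cancel e', rfl⟩

end Cfsg.Agent.RankOne
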