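import Cfsg.Agent.Lib.RankOne.Inverting

/-!
Centralisers of subsets of `D` fixing at least three points, and the fixed-point-free action of
the inverted elements on `Q`.
-/

set_option autoImplicit false

namespace Cfsg.Agent.RankOne

open MulAction

variable {G Ω : Type*} [Group G] [MulAction G Ω] {a : Ω} {t : G} {Q : Subgroup G}

theorem mem_twoPt {g : G} (h1 : g • a = a) (h2 : g • t • a = t • a) : g ∈ twoPt G a t := ⟨h1, h2⟩

theorem commute_of_conj {x q : G} (h : x * q * x⁻¹ = q) : x * q = q * x :=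
  mul_inv_eq_iff_eq_mul.1 h

/-- At `a`: the centraliser in `Q` of `X ⊆ G_a` is transitive on the fixed points of `X` off `a`. -/
theorem exists_q_centralizing (hS : IsRankOneSetup G Ω a t Q) {X : Set G}
    (hX : ∀ x ∈ X, x • a = a) {b c : Ω} (hb : b ≠ a) (hc : c ≠ a) (hXb : ∀ x ∈ X, x • b = b)
    (hXc : ∀ x ∈ X, x • c = c) : ∃ q ∈ Q, q ∈ Subgroup.centralizer X ∧ q • b = c := by
  obtain ⟨q, hq, hqb⟩ := exists_q hS hb hc
  refine ⟨q, hq, Subgroup.mem_centralizer_iff.2 fun x hx => commute_of_conj ?_, hqb⟩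
  refine q_unique hS hb (hS.conj_mem x (hX x hx) q hq) hq ?_
  rw [mul_smul, mul_smul, inv_smul_eq_iff.2 (hXb x hx).symm, hqb, hXc x hx]

theorem smul_fixed_of_centralizer {X : Set G} {g : G} (hg : g ∈ Subgroup.centralizer X) {b : Ω}
    (hb : ∀ x ∈ X, x • b = b) : ∀ x ∈ X, x • g • b = g • b := by
  intro x hx
  rw [← mul_smul, Subgroup.mem_centralizer_iff.1 hg x hx, mul_smul, hb x hx]

/-- The same at an arbitrary point. -/
theorem exists_centralizing_fix (hS : IsRankOneSetup G Ω a t Q) {X : Set G} {p b c : Ω}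
    (hb : b ≠ p) (hc : c ≠ p) (hXp : ∀ x ∈ X, x • p = p) (hXb : ∀ x ∈ X, x • b = b)
    (hXc : ∀ x ∈ X, x • c = c) : ∃ g ∈ Subgroup.centralizer X, g • p = p ∧ g • b = c := by
  obtain ⟨k, hk⟩ := exists_smul hS p a
  have ne : ∀ d : Ω, d ≠ p → k • d ≠ a := fun d hd h => hd (smul_left_cancel k (h.trans hk.symm))
  obtain ⟨q, hq, hqc, hqb⟩ := exists_q_centralizing hS (X := (fun x => k * x * k⁻¹) '' X)
    (by rintro _ ⟨x, hx, rfl⟩; rw [← hk]; exact conj_smul_of_fixed (hXp x hx)) (ne b hb) (ne c hc)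
    (by rintro _ ⟨x, hx, rfl⟩; exact conj_smul_of_fixed (hXb x hx))
    (by rintro _ ⟨x, hx, rfl⟩; exact conj_smul_of_fixed (hXc x hx))
  refine ⟨k⁻¹ * q * k, Subgroup.mem_centralizer_iff.2 fun x hx => ?_, ?_, ?_⟩
  · have h := Subgroup.mem_centralizer_iff.1 hqc _ ⟨x, hx, rfl⟩
    calc x * (k⁻¹ * q * k) = k⁻¹ * ((k * x * k⁻¹) * q) * k := by group
      _ = k⁻¹ * (q * (k * x * k⁻¹)) * k := by rw [h]
      _ = (k⁻¹ * q * k) * x := by group
  · rw [mul_smul, mul_smul, hk, smul_self_of_mem hS hq, inv_smul_eq_iff, hk]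
  · rw [mul_smul, mul_smul, hqb, inv_smul_smul]

theorem exists_third {Ω : Type*} (F : Ω → Prop)
    (h : ∃ b c d : Ω, b ≠ c ∧ b ≠ d ∧ c ≠ d ∧ F b ∧ F c ∧ F d) (x y : Ω) :
    ∃ p, F p ∧ p ≠ x ∧ p ≠ y := by
  obtain ⟨b, c, d, hbc, hbd, hcd, hb, hc, hd⟩ := h
  by_contra hcon
  have hf : ∀ z, F z → z = x ∨ z = y := fun z hz => by
    by_contra h'
    exact hcon ⟨z, hz, fun e => h' (Or.inl e), fun e => h' (Or.inr e)⟩
  rcases hf b hb with e₁ | e₁ <;> rcases hf c hc with e₂ | e₂ <;> rcases hf d hd with e₃ | e₃ <;>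
    simp_all

/-- The centraliser of `X` is doubly transitive on the fixed points of `X`. -/
theorem exists_centralizing_pair (hS : IsRankOneSetup G Ω a t Q) {X : Set G}
    (h3 : ∃ b c d : Ω, b ≠ c ∧ b ≠ d ∧ c ≠ d ∧
      (∀ x ∈ X, x • b = b) ∧ (∀ x ∈ X, x • c = c) ∧ (∀ x ∈ X, x • d = d))
    {b₁ b₂ c₁ c₂ : Ω} (hb : b₁ ≠ b₂) (hc : c₁ ≠ c₂) (hb₁ : ∀ x ∈ X, x • b₁ = b₁)
    (hb₂ : ∀ x ∈ X, x • b₂ = b₂) (hc₁ : ∀ x ∈ X, x • c₁ = c₁) (hc₂ : ∀ x ∈ X, x • c₂ = c₂) :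
    ∃ g ∈ Subgroup.centralizer X, g • b₁ = c₁ ∧ g • b₂ = c₂ := by
  obtain ⟨g₁, hg₁, hg₁b⟩ : ∃ g ∈ Subgroup.centralizer X, g • b₁ = c₁ := by
    obtain ⟨p, hp, hpb, hpc⟩ := exists_third _ h3 b₁ c₁
    obtain ⟨g, hg, -, hgb⟩ := exists_centralizing_fix hS hpb.symm hpc.symm hp hb₁ hc₁
    exact ⟨g, hg, hgb⟩
  have hne : g₁ • b₂ ≠ c₁ := fun h => hb (smul_left_cancel g₁ (hg₁b.trans h.symm))
  obtain ⟨g₂, hg₂, hg₂c, hg₂b⟩ := exists_centralizing_fix hS hne hc.symm hc₁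
    (smul_fixed_of_centralizer hg₁ hb₂) hc₂
  exact ⟨g₂ * g₁, mul_mem hg₂ hg₁, by rw [mul_smul, hg₁b, hg₂c], by rw [mul_smul, hg₂b]⟩

theorem centralizer_split (hS : IsRankOneSetup G Ω a t Q) {X : Set G}
    (hX : X ⊆ (twoPt G a t : Set G)) :
    (Subgroup.centralizer X ⊓ Q) ⊔ (Subgroup.centralizer X ⊓ twoPt G a t) =
      Subgroup.centralizer X ⊓ stabilizer G a := by
  refine le_antisymm (sup_le (inf_le_inf_left _ hS.le) (inf_le_inf_left _ inf_le_left)) ?_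
  rintro g ⟨hgX, hga⟩
  have hga' : g • a = a := hga
  obtain ⟨q, hq, hqc, hqb⟩ := exists_q_centralizing hS (fun x hx => (hX hx).1) (ta_ne hS)
    (smul_ne_a hS hga' (ta_ne hS)) (fun x hx => (hX hx).2)
    (smul_fixed_of_centralizer hgX fun x hx => (hX hx).2)
  have hd : q⁻¹ * g ∈ Subgroup.centralizer X ⊓ twoPt G a t := by
    refine Subgroup.mem_inf.2 ⟨mul_mem (inv_mem hqc) hgX, mem_twoPt ?_ ?_⟩
    · rw [mul_smul, hga', smul_self_of_mem hS (inv_mem hq)]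
    · rw [mul_smul, ← hqb, inv_smul_smul]
  have := mul_mem ((Subgroup.mem_sup_left (Subgroup.mem_inf.2 ⟨hqc, hq⟩) : q ∈ (Subgroup.centralizer X ⊓ Q) ⊔ (Subgroup.centralizer X ⊓ twoPt G a t)))
    (Subgroup.mem_sup_right hd)
  rwa [mul_inv_cancel_left] at this

variable [Finite G]

/-- The centraliser of `X` holds an involution exchanging `a` and `t • a`. -/
theorem exists_swap_involution (hS : IsRankOneSetup G Ω a t Q) {X : Set G}
    (hX : X ⊆ (twoPt G a t : Set G))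
    (h3 : ∃ b c d : Ω, b ≠ c ∧ b ≠ d ∧ c ≠ d ∧
      (∀ x ∈ X, x • b = b) ∧ (∀ x ∈ X, x • c = c) ∧ (∀ x ∈ X, x • d = d)) :
    ∃ u ∈ Subgroup.centralizer X, u ≠ 1 ∧ u * u = 1 ∧ u • a = t • a := by
  have fa : ∀ x ∈ X, x • a = a := fun x hx => (hX hx).1
  have fb : ∀ x ∈ X, x • t • a = t • a := fun x hx => (hX hx).2
  obtain ⟨g, hg, hga, hgb⟩ := exists_centralizing_pair hS h3 (Ne.symm (ta_ne hS)) (ta_ne hS) fa fb fb fa
  have hgg : g * g ∈ twoPt G a t :=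
    mem_twoPt (by rw [mul_smul, hga, hgb]) (by rw [mul_smul, hgb, hga])
  obtain ⟨n, hn⟩ := hS.odd_card
  have h1 : (g * g) ^ (2 * n + 1) = 1 := by
    rw [← hn]
    exact congrArg Subtype.val (pow_card_eq_one' (x := (⟨_, hgg⟩ : twoPt G a t)))
  have hua : g ^ (2 * n + 1) • a = t • a := by
    have h2 : (g * g) ^ n • a = a := (pow_mem hgg n).1
    rw [pow_succ', pow_mul, pow_two, mul_smul, h2, hga]
  refine ⟨g ^ (2 * n + 1), pow_mem hg _, fun h => ?_, ?_, hua⟩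
  · rw [h, one_smul] at hua; exact ta_ne hS hua.symm
  · rw [← (Commute.refl g).mul_pow, h1]

theorem exists_involution_centralizing (hS : IsRankOneSetup G Ω a t Q) {X : Set G}
    (hX : X ⊆ (twoPt G a t : Set G))
    (h3 : ∃ b c d : Ω, b ≠ c ∧ b ≠ d ∧ c ≠ d ∧
      (∀ x ∈ X, x • b = b) ∧ (∀ x ∈ X, x • c = c) ∧ (∀ x ∈ X, x • d = d)) :
    ∃ s ∈ invA G a, s ∈ Q ∧ s ∈ Subgroup.centralizer X := by
  obtain ⟨u, huX, hu1, hu, hua⟩ := exists_swap_involution hS hX h3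
  obtain ⟨e, he, -⟩ := exists_fix hS hu1 hu
  have fe : ∀ x ∈ X, x • e = e := fun x hx =>
    fix_unique hS hu1 hu
      (by rw [← mul_smul, ← Subgroup.mem_centralizer_iff.1 huX x hx, mul_smul, he]) he
  obtain ⟨p, hp, hpe, -⟩ := exists_third _ h3 e e
  obtain ⟨g, hg, hge, -⟩ := exists_centralizing_pair hS h3 (Ne.symm hpe)
    (Ne.symm (ta_ne hS)) fe hp (fun x hx => (hX hx).1) (fun x hx => (hX hx).2)
  have hfix := conj_smul_of_fixed (g := g) he
  rw [hge] at hfix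
  exact ⟨g * u * g⁻¹, ⟨hfix, conj_ne_one hu1, conj_mul_self hu⟩,
    mem_Q_of_inv hS (conj_ne_one hu1) (conj_mul_self hu) hfix,
    mul_mem (mul_mem hg huX) (inv_mem hg)⟩

theorem even_card_centralizer_inf (hS : IsRankOneSetup G Ω a t Q) {X : Set G}
    (hX : X ⊆ (twoPt G a t : Set G))
    (h3 : ∃ b c d : Ω, b ≠ c ∧ b ≠ d ∧ c ≠ d ∧
      (∀ x ∈ X, x • b = b) ∧ (∀ x ∈ X, x • c = c) ∧ (∀ x ∈ X, x • d = d)) :
    Even (Nat.card ↥(Subgroup.centralizer X ⊓ Q)) := by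
  obtain ⟨s, hs, hsQ, hsX⟩ := exists_involution_centralizing hS hX h3
  have h2 : orderOf (⟨s, hsX, hsQ⟩ : ↥(Subgroup.centralizer X ⊓ Q)) = 2 := by
    rw [← Subgroup.orderOf_coe]
    exact orderOf_eq_prime (by rw [pow_two]; exact hs.2.2) hs.2.1
  rw [even_iff_two_dvd, ← h2]
  exact orderOf_dvd_natCard _

/-- Such an `X` is conjugate under `D` into the centraliser of `t`. -/
theorem exists_conj_commute_t (hS : IsRankOneSetup G Ω a t Q) {X : Set G}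
    (hX : X ⊆ (twoPt G a t : Set G))
    (h3 : ∃ b c d : Ω, b ≠ c ∧ b ≠ d ∧ c ≠ d ∧
      (∀ x ∈ X, x • b = b) ∧ (∀ x ∈ X, x • c = c) ∧ (∀ x ∈ X, x • d = d)) :
    ∃ k ∈ twoPt G a t, ∀ x ∈ X, (k * x * k⁻¹) * t = t * (k * x * k⁻¹) := by
  obtain ⟨u, huX, -, hu, hua⟩ := exists_swap_involution hS hX h3
  obtain ⟨j, hj, rfl⟩ := swap_conj_t hS hu hua
  refine ⟨j, hj.1, fun x hx => ?_⟩
  calc (j * x * j⁻¹) * t = j * (x * (j⁻¹ * t * j)) * j⁻¹ := by group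
    _ = j * ((j⁻¹ * t * j) * x) * j⁻¹ := by rw [Subgroup.mem_centralizer_iff.1 huX x hx]
    _ = t * (j * x * j⁻¹) := by group

/-- A non-trivial inverted element fixes no element of `Q ∖ {1}`. -/
theorem inverted_fpf (hS : IsRankOneSetup G Ω a t Q) {x : G} (hx : x ∈ invD G a t) (hx1 : x ≠ 1)
    {q : G} (hq : q ∈ Q) (hqx : q * x = x * q) : q = 1 := by
  by_contra hq1
  obtain ⟨hxD, hxt⟩ := hx
  have hxa : x • a = a := hxD.1
  have hxb : x • t • a = t • a := hxD.2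
  have hne : q • t • a ≠ t • a := fun h => ta_ne hS (eq_of_fixed hS hq hq1 h)
  obtain ⟨s, hs, -, hsX⟩ := exists_involution_centralizing hS (X := {x})
    (by rintro y rfl; exact hxD)
    ⟨a, t • a, q • t • a, Ne.symm (ta_ne hS),
      Ne.symm (smul_ne_a hS (smul_self_of_mem hS hq) (ta_ne hS)), Ne.symm hne,
      by rintro y rfl; exact hxa, by rintro y rfl; exact hxb,
      by rintro y rfl; rw [← mul_smul, ← hqx, mul_smul, hxb]⟩
  have hsx : s * x * s⁻¹ = x := by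
    rw [← Subgroup.mem_centralizer_iff.1 hsX x rfl, mul_inv_cancel_right]
  have hsa : s • a = a := hs.1
  obtain ⟨d, hd, hds⟩ := Involution.exists_conj_pair_of_odd hs.2.2 hS.mul_self
    (odd_orderOf_mul hS hs.2.1 hs.2.2 hS.ne_one hS.mul_self hsa (ta_ne hS))
  -- every element of `⟨s, t⟩` maps `x` to `x` or `x⁻¹`
  have key : ∀ g ∈ Subgroup.closure ({s, t} : Set G), g * x * g⁻¹ = x ∨ g * x * g⁻¹ = x⁻¹ := by
    intro g hg
    induction hg using Subgroup.closure_induction with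
    | mem g hg =>
      rcases hg with rfl | rfl
      · exact Or.inl hsx
      · exact Or.inr hxt
    | one => exact Or.inl (by group)
    | mul g h _ _ ihg ihh =>
      have e : g * h * x * (g * h)⁻¹ = g * (h * x * h⁻¹) * g⁻¹ := by group
      have e' : g * x⁻¹ * g⁻¹ = (g * x * g⁻¹)⁻¹ := by group
      rw [e]
      rcases ihh with h' | h' <;> rw [h'] <;> rcases ihg with g' | g'
      · exact Or.inl g'
      · exact Or.inr g'
      · exact Or.inr (by rw [e', g'])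
      · exact Or.inl (by rw [e', g', inv_inv])
    | inv g _ ih =>
      rcases ih with h' | h'
      · left; nth_rw 1 [← h']; group
      · right
        calc g⁻¹ * x * g⁻¹⁻¹ = g⁻¹ * (g * x * g⁻¹)⁻¹ * g := by rw [h', inv_inv, inv_inv]
          _ = x⁻¹ := by group
  have hfix : t * x * t⁻¹ = x := by
    rw [← hds]
    rcases key d hd with h' | h'
    · calc d * s * d⁻¹ * x * (d * s * d⁻¹)⁻¹
          = d * (s * (d⁻¹ * x * d) * s⁻¹) * d⁻¹ := by group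
        _ = d * (s * (d⁻¹ * (d * x * d⁻¹) * d) * s⁻¹) * d⁻¹ := by rw [h']
        _ = d * (s * x * s⁻¹) * d⁻¹ := by group
        _ = x := by rw [hsx, h']
    · calc d * s * d⁻¹ * x * (d * s * d⁻¹)⁻¹
          = d * (s * (d⁻¹ * x⁻¹ * d)⁻¹ * s⁻¹) * d⁻¹ := by group
        _ = d * (s * (d⁻¹ * (d * x * d⁻¹) * d)⁻¹ * s⁻¹) * d⁻¹ := by rw [h']
        _ = (d * (s * x * s⁻¹) * d⁻¹)⁻¹ := by group
        _ = x := by rw [hsx, h', inv_inv]
  rw [hxt] at hfix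
  exact hx1 (eq_one_of_sq_eq_one hS.odd_card hxD (by nth_rw 1 [← hfix]; group))

end Cfsg.Agent.RankOne
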