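import Cfsg.Agent.Lib.RankOne.Kernel
import Cfsg.Agent.Lib.OddLinear.Main

/-!
# The inverted elements form a cyclic normal subgroup of the two-point stabiliser

`D` acts on the elementary abelian group of involutions fixing `a` as an odd order transitive
linear group; the centraliser of its distinguished element is the image of the inverted set.
-/

set_option autoImplicit false
set_option linter.style.haveILetI false
set_option linter.unusedSectionVars false

namespace Cfsg.Agent.RankOne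

open MulAction

variable {G Ω : Type*} [Group G] [MulAction G Ω] [Finite G] {a : Ω} {t : G} {Q : Subgroup G}

/-- The structure of `D`. -/
theorem inverted_structure (hS : IsRankOneSetup G Ω a t Q)
    (h2 : ∃ x y : G, x ≠ 1 ∧ y ≠ 1 ∧ x ≠ y ∧ x * x = 1 ∧ y * y = 1 ∧ x * y = y * x) :
    (∃ k0 ∈ invD G a t, ((Subgroup.zpowers k0 : Subgroup G) : Set G) = invD G a t) ∧
      (∀ d ∈ twoPt G a t, ∀ k ∈ invD G a t, d * k * d⁻¹ ∈ invD G a t) ∧
      ∃ (p : ℕ) (Z : Type) (_ : Group Z) (θ : ↥(twoPt G a t ⊓ Subgroup.centralizer {t}) →* Z),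
        (p = 1 ∨ p.Prime) ∧ IsCyclic Z ∧
        ∀ v, θ v = 1 → ∀ k ∈ invD G a t, Commute (v : G) k := by
  classical
  obtain ⟨⟨s0, r⟩, ⟨hs0, hr, he⟩, -⟩ := exists_unique_pair hS
  have hV := centralizer_s0 hS hs0 hr he
  -- the group of involutions fixing `a`
  let E : Subgroup G :=
    { carrier := {g | g = 1 ∨ g ∈ invA G a}
      one_mem' := Or.inl rfl
      mul_mem' := by
        rintro x y (rfl | hx) (rfl | hy)
        · exact Or.inl (one_mul 1)
        · exact Or.inr (by rwa [one_mul])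
        · exact Or.inr (by rwa [mul_one])
        · by_cases h : x * y = 1
          · exact Or.inl h
          · exact Or.inr ⟨mul_mem hx.1 hy.1, h, invA_commute hS h2 hx hy⟩
      inv_mem' := by
        rintro x (rfl | hx)
        · exact Or.inl inv_one
        · exact Or.inr (by rwa [invol_inv hx.2.2]) }
  have hmemE : ∀ g, g ∈ E ↔ g = 1 ∨ g ∈ invA G a := fun g => Iff.rfl
  have hEconj : ∀ d ∈ twoPt G a t, ∀ g ∈ E, d * g * d⁻¹ ∈ E := by
    rintro d hd g ((rfl : g = 1) | hg)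
    · exact Or.inl (by group)
    · refine Or.inr ?_
      have := conj_mem_invA hS hg (d := d⁻¹) (inv_smul_eq_iff.2 hd.1.symm)
      rwa [inv_inv] at this
  have hEcomm : ∀ x y : ↥E, x * y = y * x := by
    rintro ⟨x, hx⟩ ⟨y, hy⟩
    refine Subtype.ext ?_
    rcases hx with rfl | hx <;> rcases hy with rfl | hy <;> try simp
    exact (invA_central hS h2 hx).2 y (invA_central hS h2 hy).1
  letI : CommGroup ↥E := { (inferInstance : Group ↥E) with mul_comm := hEcomm }
  let φ : ↥(twoPt G a t) →* MulAut ↥E :=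
    { toFun := fun d =>
        { toFun := fun g => ⟨d * g * (d : G)⁻¹, hEconj d d.2 g g.2⟩
          invFun := fun g => ⟨(d : G)⁻¹ * g * d, by
            have := hEconj (d : G)⁻¹ (inv_mem d.2) g g.2
            rwa [inv_inv] at this⟩
          left_inv := fun g => Subtype.ext (by simp [mul_assoc])
          right_inv := fun g => Subtype.ext (by simp [mul_assoc])
          map_mul' := fun g g' => Subtype.ext (by simp [mul_assoc]) }
      map_one' := MulEquiv.ext fun g => Subtype.ext (by simp)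
      map_mul' := fun d d' => MulEquiv.ext fun g => Subtype.ext (by simp [mul_assoc]) }
  have hφapp : ∀ (d : ↥(twoPt G a t)) (g : ↥E), ((φ d) g : G) = d * g * (d : G)⁻¹ := fun _ _ => rfl
  let Ea := Additive ↥E
  letI act : DistribMulAction ↥φ.range Ea :=
    { smul := fun g v => Additive.ofMul ((g : MulAut ↥E) (Additive.toMul v))
      one_smul := fun v => rfl
      mul_smul := fun g g' v => rfl
      smul_zero := fun g => congrArg Additive.ofMul (map_one (g : MulAut ↥E))
      smul_add := fun g v w => congrArg Additive.ofMul (map_mul (g : MulAut ↥E) _ _) }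
  haveI : FaithfulSMul ↥φ.range Ea := ⟨fun {g g'} h => Subtype.ext (MulEquiv.ext fun x =>
    Additive.ofMul.injective (h (Additive.ofMul x)))⟩
  haveI : Finite Ea := Finite.of_equiv ↥E Additive.ofMul
  have hs0E : s0 ∈ E := Or.inr hs0
  haveI : Nontrivial Ea := ⟨⟨0, Additive.ofMul ⟨s0, hs0E⟩, fun e =>
    hs0.2.1 (congrArg Subtype.val (Additive.ofMul.injective e)).symm⟩⟩
  have hE2 : ∀ v : Ea, 2 • v = 0 := fun v => by
    rw [two_nsmul]
    refine congrArg Additive.ofMul (Subtype.ext ?_ : Additive.toMul v * Additive.toMul v = 1)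
    rcases (Additive.toMul v).2 with h | h
    · simp [h]
    · exact h.2.2
  have hodd : Odd (Nat.card ↥φ.range) := hS.odd_card.of_dvd_nat (Subgroup.card_range_dvd φ)
  have htrans : ∀ u w : Ea, u ≠ 0 → w ≠ 0 → ∃ g : ↥φ.range, g • u = w := by
    intro u w hu hw
    have hmem : ∀ v : Ea, v ≠ 0 → ((Additive.toMul v : ↥E) : G) ∈ invA G a := fun v hv => by
      rcases (Additive.toMul v).2 with h | h
      · exact absurd (Additive.toMul.injective (Subtype.ext h)) hv
      · exact h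
    obtain ⟨k, hk, hku⟩ := exists_conj_inverted hS (hmem u hu) (hmem w hw)
    refine ⟨⟨φ ⟨k⁻¹, inv_mem hk.1⟩, _, rfl⟩, Additive.toMul.injective (Subtype.ext ?_)⟩
    show k⁻¹ * ((Additive.toMul u : ↥E) : G) * k⁻¹⁻¹ = _
    rw [inv_inv, hku]
  obtain ⟨xb, hgood⟩ := OddLinear.exists_good hodd hE2 htrans
  obtain ⟨d0, hd0⟩ := xb.2
  set p := orderOf xb with hp
  set Cb := Subgroup.centralizer ({xb} : Set ↥φ.range) with hCb
  haveI := hgood.cyclic
  let π : ↥(twoPt G a t) →* ↥φ.range := φ.rangeRestrict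
  have hπsurj : Function.Surjective π := φ.rangeRestrict_surjective
  have hxb : π d0 = xb := Subtype.ext hd0
  -- the automorphism
  let T : ↥(twoPt G a t) →* ↥(twoPt G a t) :=
    { toFun := fun d => ⟨t * d * t⁻¹, conj_twoPt hS d.2⟩
      map_one' := Subtype.ext (by simp)
      map_mul' := fun d d' => Subtype.ext (by simp [mul_assoc]) }
  have hTT : ∀ d, T (T d) = d := fun d => Subtype.ext (invol_conj_conj hS.mul_self _)
  have hfix_s0 : ∀ d : ↥(twoPt G a t), π d = 1 → T d = d := by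
    intro d hd
    have hds : (d : G) * s0 * (d : G)⁻¹ = s0 := by
      have := congrArg (fun f : MulAut ↥E => ((f ⟨s0, hs0E⟩ : ↥E) : G)) (congrArg Subtype.val hd)
      exact this
    have hmem : (d : G) ∈ twoPt G a t ⊓ Subgroup.centralizer {t} := by
      rw [hV]
      exact ⟨d.2, Subgroup.mem_centralizer_singleton_iff.2 (mul_inv_eq_iff_eq_mul.1 hds)⟩
    refine Subtype.ext ?_
    show t * d * t⁻¹ = d
    rw [← Subgroup.mem_centralizer_singleton_iff.1 hmem.2, mul_inv_cancel_right]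
  have hT1 : ∀ d, π d = 1 → π (T d) = 1 := fun d hd => by rw [hfix_s0 d hd, hd]
  -- elements of `D` commuting with `t` and centralising `x` act trivially
  have hfpf : ∀ d : ↥(twoPt G a t), T d = d → π d ∈ Cb → π d = 1 := by
    intro d hd hC
    by_contra hne
    have hdt : (d : G) ∈ twoPt G a t ⊓ Subgroup.centralizer {t} := ⟨d.2,
      Subgroup.mem_centralizer_singleton_iff.2
        (mul_inv_eq_iff_eq_mul.1 (congrArg Subtype.val hd)).symm⟩
    rw [hV] at hdt
    have h0 := hgood.fpf _ hC hne (Additive.ofMul ⟨s0, hs0E⟩) (Additive.toMul.injective (Subtype.ext (by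
      show (d : G) * s0 * (d : G)⁻¹ = s0
      rw [Subgroup.mem_centralizer_singleton_iff.1 hdt.2, mul_inv_cancel_right])))
    exact hs0.2.1 (congrArg Subtype.val (Additive.ofMul.injective h0))
  have hsqmem : ∀ {H : Subgroup ↥φ.range} {g : ↥φ.range}, g * g ∈ H → g ∈ H := by
    intro H g hg
    obtain ⟨j, hj⟩ : Odd (orderOf g) := hodd.of_dvd_nat (orderOf_dvd_natCard _)
    have : g = (g * g) ^ (j + 1) := by
      rw [← pow_two, ← pow_mul, show 2 * (j + 1) = (2 * j + 1) + 1 by ring, pow_succ, ← hj,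
        pow_orderOf_eq_one, one_mul]
    rw [this]
    exact H.pow_mem hg _
  -- inverted elements centralise `x`
  have hK : ∀ k, (hk : k ∈ invD G a t) → π ⟨k, hk.1⟩ ∈ Cb := by
    intro k hk
    rcases hgood.order with h1 | hprime
    · rw [hCb, Subgroup.mem_centralizer_singleton_iff, orderOf_eq_one_iff.1 h1, mul_one, one_mul]
    haveI : Fact p.Prime := ⟨hprime⟩
    set y := π (T d0) with hy
    have hyp : y ^ p = 1 := by
      rw [hy, ← map_pow, ← map_pow]
      exact hT1 _ (by rw [map_pow, hxb, hp, pow_orderOf_eq_one])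
    have hy1 : y ≠ 1 := fun e => hprime.ne_one (by
      rw [orderOf_eq_one_iff, ← hxb, ← hTT d0]; exact hT1 _ e)
    have hyC : y ∈ Cb := by
      rw [hCb, Subgroup.mem_centralizer_singleton_iff]
      exact OddLinear.commute_of_pow hp.symm (hgood.normal y) (k := 1)
        (by rw [pow_one, hyp, one_mul, mul_one])
    obtain ⟨l, hl⟩ : ∃ l : ℤ, y ^ l = xb := by
      have hxbC : xb ∈ Cb := Subgroup.mem_centralizer_singleton_iff.2 rfl
      obtain ⟨l, hl⟩ := OddLinear.mem_zpowers_of_pow (C := ↥Cb) hprime (x := ⟨y, hyC⟩)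
        (y := ⟨xb, hxbC⟩) (by rw [← Subgroup.orderOf_coe]; exact orderOf_eq_prime hyp hy1)
        (Subtype.ext (by show xb ^ p = 1; rw [hp, pow_orderOf_eq_one]))
      exact ⟨l, congrArg Subtype.val hl⟩
    set u := π ⟨k, hk.1⟩ with hu
    have hTk : T ⟨k, hk.1⟩ = (⟨k, hk.1⟩ : ↥(twoPt G a t))⁻¹ := Subtype.ext hk.2
    obtain ⟨j, hj⟩ := Subgroup.mem_zpowers_iff.1 (hgood.normal u⁻¹)
    rw [inv_inv] at hj
    have hj' : u⁻¹ * y * u = y ^ j := by
      have e : π ((d0 ^ j)⁻¹ * (⟨k, hk.1⟩ * d0 * (⟨k, hk.1⟩ : ↥(twoPt G a t))⁻¹)) = 1 := by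
        simp only [map_mul, map_inv, map_zpow, hxb, ← hu]
        rw [hj, inv_mul_cancel]
      have e2 := hT1 _ e
      simp only [map_mul, map_inv, map_zpow, hTk, ← hu, ← hy, inv_inv] at e2
      exact (inv_mul_eq_one.1 e2).symm
    have hj'' : u⁻¹ * xb * u = xb ^ j := by
      rw [← hl, ← zpow_mul, mul_comm, zpow_mul, ← hj']
      simpa using (conj_zpow (i := l) (a := u⁻¹) (b := y)).symm
    apply hsqmem
    rw [hCb, Subgroup.mem_centralizer_singleton_iff]
    have e : u * xb * u⁻¹ = u⁻¹ * xb * u := by rw [hj'', hj]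
    calc u * u * xb = u * (u * xb * u⁻¹) * u := by group
      _ = u * (u⁻¹ * xb * u) * u := by rw [e]
      _ = xb * (u * u) := by group
  -- injectivity
  have hinj : ∀ k, (hk : k ∈ invD G a t) → ∀ k', (hk' : k' ∈ invD G a t) →
      π ⟨k, hk.1⟩ = π ⟨k', hk'.1⟩ → k = k' := by
    intro k hk k' hk' e
    set w : ↥(twoPt G a t) := ⟨k, hk.1⟩ * (⟨k', hk'.1⟩ : ↥(twoPt G a t))⁻¹
    have hw := hfix_s0 w (by rw [map_mul, map_inv, e, mul_inv_cancel])
    exact (fix_mul_inverted_unique hS.odd_card hk.1 hk'.1 (c := 1) (c' := k * k'⁻¹) (by group)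
      (congrArg Subtype.val hw) hk.2 hk'.2 (by group)).2
  have hdec : ∀ d : ↥(twoPt G a t), ∃ (v : ↥(twoPt G a t)) (k : G) (hk : k ∈ invD G a t),
      T v = v ∧ d = v * ⟨k, hk.1⟩ := by
    intro d
    obtain ⟨c, k, hc, hct, hkD, hkt, e⟩ :=
      exists_fix_mul_inverted hS.odd_card hS.mul_self (fun x hx => conj_twoPt hS hx) d.2
    exact ⟨⟨c, hc⟩, k, ⟨hkD, hkt⟩, Subtype.ext hct, Subtype.ext e⟩
  -- the generator
  obtain ⟨c0, hc0⟩ := IsCyclic.exists_generator (α := ↥Cb)
  obtain ⟨dc, hdc⟩ := hπsurj (c0 : ↥φ.range)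
  obtain ⟨vc, k0, hk0, hvc, hdck⟩ := hdec dc
  have hπk0 : π ⟨k0, hk0.1⟩ = c0 := by
    have hv : π vc = 1 := hfpf vc hvc (by
      have e : π vc = c0 * (π ⟨k0, hk0.1⟩)⁻¹ := by rw [← hdc, hdck, map_mul, mul_inv_cancel_right]
      rw [e]; exact Cb.mul_mem c0.2 (Cb.inv_mem (hK k0 hk0)))
    rw [← hdc, hdck, map_mul, hv, one_mul]
  have hzk : ∀ i : ℤ, k0 ^ i ∈ invD G a t := fun i =>
    ⟨zpow_mem hk0.1 i, conj_zpowers_inv hk0.2 (Subgroup.zpow_mem_zpowers k0 i)⟩
  have hKeq : ((Subgroup.zpowers k0 : Subgroup G) : Set G) = invD G a t := by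
    refine Set.Subset.antisymm (by rintro _ ⟨i, rfl⟩; exact hzk i) fun k hk => ?_
    obtain ⟨i, hi⟩ := Subgroup.mem_zpowers_iff.1 (hc0 ⟨_, hK k hk⟩)
    refine ⟨i, (hinj _ (hzk i) k hk ?_)⟩
    have e : (⟨k0 ^ i, (hzk i).1⟩ : ↥(twoPt G a t)) = (⟨k0, hk0.1⟩ : ↥(twoPt G a t)) ^ i :=
      Subtype.ext (by simp)
    rw [e, map_zpow, hπk0]
    exact congrArg Subtype.val hi
  have hKcomm : ∀ k ∈ invD G a t, ∀ k' ∈ invD G a t, Commute k k' := by
    intro k hk k' hk'
    rw [← hKeq] at hk hk'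
    obtain ⟨i, rfl⟩ := hk
    obtain ⟨j, rfl⟩ := hk'
    exact Commute.zpow_zpow_self k0 i j
  have hnorm : ∀ d ∈ twoPt G a t, ∀ k ∈ invD G a t, d * k * d⁻¹ ∈ invD G a t := by
    intro d hd k hk
    obtain ⟨v, k', hk', hv, e⟩ := hdec ⟨d, hd⟩
    have e' : d = (v : G) * k' := congrArg Subtype.val e
    have e2 : d * k * d⁻¹ = (v : G) * k * (v : G)⁻¹ := by
      rw [e', mul_inv_rev, show (v : G) * k' * k * (k'⁻¹ * (v : G)⁻¹) = v * (k' * k * k'⁻¹) * (v : G)⁻¹ by group,
        (hKcomm k' hk' k hk).eq, mul_inv_cancel_right]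
    rw [e2]
    refine ⟨mul_mem (mul_mem v.2 hk.1) (inv_mem v.2), ?_⟩
    have hvt : t * (v : G) * t⁻¹ = v := congrArg Subtype.val hv
    calc t * ((v : G) * k * (v : G)⁻¹) * t⁻¹
        = (t * v * t⁻¹) * (t * k * t⁻¹) * (t * v * t⁻¹)⁻¹ := by group
      _ = ((v : G) * k * (v : G)⁻¹)⁻¹ := by rw [hvt, hk.2]; group
  refine ⟨⟨k0, hk0, hKeq⟩, hnorm, ?_⟩
  -- the action of `C_D(t)` on `⟨x⟩`
  have hZn : (Subgroup.zpowers xb).Normal := by
    refine ⟨fun y hy g => ?_⟩
    obtain ⟨i, rfl⟩ := Subgroup.mem_zpowers_iff.1 hy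
    have := hgood.normal g⁻¹
    rw [inv_inv] at this
    rw [← conj_zpow]
    exact (Subgroup.zpowers xb).zpow_mem this i
  haveI := hZn
  let incl : ↥(twoPt G a t ⊓ Subgroup.centralizer {t}) →* ↥(twoPt G a t) :=
    Subgroup.inclusion inf_le_left
  let ρ : ↥φ.range →* MulAut ↥(Subgroup.zpowers xb) := MulAut.conjNormal
  haveI : IsCyclic ↥(Subgroup.zpowers xb) := inferInstance
  let eZ := IsCyclic.mulAutMulEquiv (G := ↥(Subgroup.zpowers xb))
  refine ⟨p, (ZMod (Nat.card ↥(Subgroup.zpowers xb)))ˣ, inferInstance,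
    eZ.toMonoidHom.comp (ρ.comp (π.comp incl)), hgood.order.imp id id, ?_, fun v hv k hk => ?_⟩
  · rw [Nat.card_zpowers]
    rcases hgood.order with h1 | hpr
    · rw [h1]; infer_instance
    · exact ZMod.isCyclic_units_prime hpr
  · have hρ : ρ (π (incl v)) = 1 := eZ.injective (by rw [map_one]; exact hv)
    have hcomm : π (incl v) * xb * (π (incl v))⁻¹ = xb := by
      have e := congrArg (fun f : MulAut ↥(Subgroup.zpowers xb) =>
        ((f ⟨xb, Subgroup.mem_zpowers xb⟩ : ↥(Subgroup.zpowers xb)) : ↥φ.range)) hρ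
      simp only [ρ, MulAut.conjNormal_apply] at e
      exact e
    have hC : π (incl v) ∈ Cb :=
      Subgroup.mem_centralizer_singleton_iff.2 (mul_inv_eq_iff_eq_mul.1 hcomm)
    have hvt : T (incl v) = incl v := Subtype.ext (by
      show t * (v : G) * t⁻¹ = v
      rw [← Subgroup.mem_centralizer_singleton_iff.1 v.2.2, mul_inv_cancel_right])
    have hker := hfpf _ hvt hC
    -- the kernel of the action centralises the inverted elements
    set kk : ↥(twoPt G a t) := ⟨k, hk.1⟩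
    have hTk : T kk = kk⁻¹ := Subtype.ext hk.2
    have e1 := hfix_s0 (kk * incl v * kk⁻¹) (by rw [map_mul, map_mul, map_inv, hker, mul_one, mul_inv_cancel])
    rw [map_mul, map_mul, map_inv, hTk, inv_inv, hvt] at e1
    have e2 : k⁻¹ * (v : G) * k = k * v * k⁻¹ := congrArg Subtype.val e1
    have hsq : (v : G) * (k * k) = k * k * v := by
      calc (v : G) * (k * k) = k * (k⁻¹ * v * k) * k := by group
        _ = k * (k * v * k⁻¹) * k := by rw [e2]
        _ = k * k * v := by group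
    exact commute_of_commute_sq hS.odd_card hk.1 hsq

end Cfsg.Agent.RankOne
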