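import Cfsg.Agent.Lib.RankOne.Setup

/-!
The bijection between the involutions of `G_a` and the elements of `D` inverted by `t`, and the
centralisers in `D` of `t` and of the involutions of `G_a`.
-/

set_option autoImplicit false

namespace Cfsg.Agent.RankOne

open MulAction

variable {G Ω : Type*} [Group G] [MulAction G Ω] {a : Ω} {t : G} {Q : Subgroup G}

/-- The involutions fixing `a`. -/
abbrev invA (G : Type*) {Ω : Type*} [Group G] [MulAction G Ω] (a : Ω) : Set G :=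
  Cfsg.involutionsIn (stabilizer G a : Set G)

/-- The elements of `D` inverted by `t`. -/
abbrev invD (G : Type*) {Ω : Type*} [Group G] [MulAction G Ω] (a : Ω) (t : G) : Set G :=
  Cfsg.invertedBy (twoPt G a t) t

theorem tk_facts (hS : IsRankOneSetup G Ω a t Q) {k : G} (hk : k ∈ invD G a t) :
    (t * k) * (t * k) = 1 ∧ t * k ≠ 1 ∧ (t * k) • a = t • a := by
  obtain ⟨⟨h1, -⟩, h2⟩ := hk
  have h1' : k • a = a := h1
  refine ⟨?_, ?_, by rw [mul_smul, h1']⟩
  · rw [show t * k * (t * k) = (t * k * t) * k by group]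
    rw [t_inv hS] at h2
    rw [h2, inv_mul_cancel]
  · intro h
    refine ta_ne hS ?_
    have := congrArg (fun g : G => g • a) h
    simpa only [mul_smul, h1', one_smul] using this

theorem swap_eq_tk (hS : IsRankOneSetup G Ω a t Q) {u : G} (hu : u * u = 1)
    (hua : u • a = t • a) : ∃ k ∈ invD G a t, u = t * k := by
  have h2 : u • t • a = a := by rw [← hua, smul_smul_self hu]
  refine ⟨t * u, ⟨⟨?_, ?_⟩, ?_⟩, by rw [← mul_assoc, hS.mul_self, one_mul]⟩
  · show (t * u) • a = a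
    rw [mul_smul, hua, t_ta hS]
  · show (t * u) • t • a = t • a
    rw [mul_smul, h2]
  · rw [t_inv hS, ← mul_assoc, hS.mul_self, one_mul, mul_inv_rev, invol_inv hu, t_inv hS]

theorem conj_sqrt_tk (hS : IsRankOneSetup G Ω a t Q) {j : G} (hj : j ∈ invD G a t) :
    j⁻¹ * t * j = t * (j * j) := by
  obtain ⟨-, h2⟩ := hj
  calc j⁻¹ * t * j = (t * j * t⁻¹) * t * j := by rw [h2]
    _ = t * (j * j) := by group

theorem exists_conj_t (hS : IsRankOneSetup G Ω a t Q) {k : G} (hk : k ∈ invD G a t) :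
    ∃ j ∈ invD G a t, j * j = k ∧ j⁻¹ * t * j = t * k := by
  obtain ⟨j, hj, hjj⟩ := exists_sqrt hS.odd_card hk.1
  have hjI : j ∈ invD G a t := ⟨Subgroup.zpowers_le.2 hk.1 hj, conj_zpowers_inv hk.2 hj⟩
  exact ⟨j, hjI, hjj, by rw [conj_sqrt_tk hS hjI, hjj]⟩

/-- An involution exchanging `a` and `t • a` is conjugate to `t` under `D`. -/
theorem swap_conj_t (hS : IsRankOneSetup G Ω a t Q) {u : G} (hu : u * u = 1)
    (hua : u • a = t • a) : ∃ j ∈ invD G a t, j⁻¹ * t * j = u := by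
  obtain ⟨k, hk, rfl⟩ := swap_eq_tk hS hu hua
  obtain ⟨j, hj, -, h⟩ := exists_conj_t hS hk
  exact ⟨j, hj, h⟩

/-- The correspondence `s ↔ k`: some element of `Q` conjugates `t s t` to `t k`. -/
def Partner (Q : Subgroup G) (t s k : G) : Prop := ∃ r ∈ Q, r * (t * s * t) * r⁻¹ = t * k

theorem tst_facts (hS : IsRankOneSetup G Ω a t Q) {s : G} (hs : s ∈ invA G a) :
    (t * s * t) * (t * s * t) = 1 ∧ t * s * t ≠ 1 ∧ (t * s * t) • t • a = t • a := by
  obtain ⟨h1, h2, h3⟩ := hs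
  have e : t * s * t = t * s * t⁻¹ := by rw [t_inv hS]
  have h1' : s • a = a := h1
  refine ⟨?_, ?_, ?_⟩
  · rw [e]; exact conj_mul_self h3
  · rw [e]; exact conj_ne_one h2
  · rw [mul_smul, mul_smul, t_ta hS, h1']

variable [Finite G]

theorem tst_smul_ne (hS : IsRankOneSetup G Ω a t Q) {s : G} (hs : s ∈ invA G a) :
    (t * s * t) • a ≠ a := fun h =>
  ta_ne hS (fix_unique hS (tst_facts hS hs).2.1 (tst_facts hS hs).1 (tst_facts hS hs).2.2 h)

theorem exists_partner (hS : IsRankOneSetup G Ω a t Q) {s : G} (hs : s ∈ invA G a) :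
    ∃ k ∈ invD G a t, Partner Q t s k := by
  obtain ⟨r, hr, hrb⟩ := exists_q hS (tst_smul_ne hS hs) (ta_ne hS)
  have hra : r⁻¹ • a = a := smul_self_of_mem hS (inv_mem hr)
  obtain ⟨k, hk, h⟩ := swap_eq_tk hS (u := r * (t * s * t) * r⁻¹)
    (conj_mul_self (tst_facts hS hs).1) (by rw [mul_smul, mul_smul, hra, hrb])
  exact ⟨k, hk, r, hr, h⟩

theorem partner_r_unique (hS : IsRankOneSetup G Ω a t Q) {s k k' r r' : G} (hs : s ∈ invA G a)
    (hk : k ∈ invD G a t) (hk' : k' ∈ invD G a t) (hr : r ∈ Q) (hr' : r' ∈ Q)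
    (h : r * (t * s * t) * r⁻¹ = t * k) (h' : r' * (t * s * t) * r'⁻¹ = t * k') : r = r' := by
  refine q_unique hS (tst_smul_ne hS hs) hr hr' ?_
  have key : ∀ q c : G, q ∈ Q → c ∈ invD G a t → q * (t * s * t) * q⁻¹ = t * c →
      q • ((t * s * t) • a) = t • a := by
    intro q c hq hc e
    have hqa : q⁻¹ • a = a := smul_self_of_mem hS (inv_mem hq)
    rw [← (tk_facts hS hc).2.2, ← e, mul_smul (q * (t * s * t)), hqa, mul_smul q]
  rw [key r k hr hk h, key r' k' hr' hk' h']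

theorem partner_right_unique (hS : IsRankOneSetup G Ω a t Q) {s k k' : G} (hs : s ∈ invA G a)
    (hk : k ∈ invD G a t) (hk' : k' ∈ invD G a t) (h : Partner Q t s k) (h' : Partner Q t s k') :
    k = k' := by
  obtain ⟨r, hr, e⟩ := h
  obtain ⟨r', hr', e'⟩ := h'
  obtain rfl := partner_r_unique hS hs hk hk' hr hr' e e'
  exact mul_left_cancel (e.symm.trans e')

theorem exists_partner_left (hS : IsRankOneSetup G Ω a t Q) {k : G} (hk : k ∈ invD G a t) :
    ∃ s ∈ invA G a, Partner Q t s k := by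
  obtain ⟨h1, h2, h3⟩ := tk_facts hS hk
  obtain ⟨e, he, -⟩ := exists_fix hS h2 h1
  have hea : e ≠ a := fun h => by
    rw [h, h3] at he
    exact ta_ne hS he
  obtain ⟨q, hq, hqe⟩ := exists_q hS hea (ta_ne hS)
  have hu := conj_smul_of_fixed (g := q) he
  rw [hqe] at hu
  refine ⟨t * (q * (t * k) * q⁻¹) * t⁻¹, ⟨?_, conj_ne_one (conj_ne_one h2),
    conj_mul_self (conj_mul_self h1)⟩, q⁻¹, inv_mem hq, ?_⟩
  · show (t * (q * (t * k) * q⁻¹) * t⁻¹) • a = a
    rw [mul_smul, mul_smul t, t_inv hS, hu, t_ta hS]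
  · generalize hx : t * k = x
    rw [t_inv hS, show q⁻¹ * (t * (t * (q * x * q⁻¹) * t) * t) * q⁻¹⁻¹
      = q⁻¹ * ((t * t) * (q * x * q⁻¹) * (t * t)) * q by group, hS.mul_self]
    group

theorem partner_left_unique (hS : IsRankOneSetup G Ω a t Q) {s s' k : G} (hs : s ∈ invA G a)
    (hs' : s' ∈ invA G a) (hk : k ∈ invD G a t) (h : Partner Q t s k) (h' : Partner Q t s' k) :
    s = s' := by
  obtain ⟨r, hr, e⟩ := h
  obtain ⟨r', hr', e'⟩ := h'
  have f := conj_smul_of_fixed (g := r) (tst_facts hS hs).2.2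
  have f' := conj_smul_of_fixed (g := r') (tst_facts hS hs').2.2
  rw [e] at f
  rw [e'] at f'
  obtain rfl := q_unique hS (ta_ne hS) hr hr'
    (fix_unique hS (tk_facts hS hk).2.1 (tk_facts hS hk).1 f f')
  rw [← e] at e'
  have h1 := mul_right_cancel (mul_left_cancel (mul_right_cancel e'))
  exact (mul_left_cancel h1).symm

theorem card_invD_eq (hS : IsRankOneSetup G Ω a t Q) :
    Nat.card (invD G a t) = Nat.card (invA G a) := by
  choose f hf1 hf2 using fun s : invA G a => exists_partner hS s.2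
  refine (Nat.card_eq_of_bijective (fun s => (⟨f s, hf1 s⟩ : invD G a t)) ⟨?_, ?_⟩).symm
  · intro s s' h
    have h' : f s = f s' := congrArg Subtype.val h
    exact Subtype.ext (partner_left_unique hS s.2 s'.2 (hf1 s) (hf2 s) (h' ▸ hf2 s'))
  · intro k
    obtain ⟨s, hs, hp⟩ := exists_partner_left hS k.2
    exact ⟨⟨s, hs⟩, Subtype.ext (partner_right_unique hS hs (hf1 ⟨s, hs⟩) k.2 (hf2 ⟨s, hs⟩) hp)⟩

theorem one_mem_invD (hS : IsRankOneSetup G Ω a t Q) : (1 : G) ∈ invD G a t :=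
  ⟨one_mem _, by rw [mul_one, mul_inv_cancel, inv_one]⟩

theorem partner_one_iff (hS : IsRankOneSetup G Ω a t Q) {s r : G} :
    r * (t * s * t) * r⁻¹ = t * 1 ↔ t * s * t = r⁻¹ * t * r := by
  rw [mul_one]
  constructor
  · intro h
    calc t * s * t = r⁻¹ * (r * (t * s * t) * r⁻¹) * r := by group
      _ = r⁻¹ * t * r := by rw [h]
  · intro h; rw [h]; group

theorem exists_unique_pair (hS : IsRankOneSetup G Ω a t Q) :
    ∃! p : G × G, p.1 ∈ invA G a ∧ p.2 ∈ Q ∧ t * p.1 * t = p.2⁻¹ * t * p.2 := by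
  obtain ⟨s, hs, r, hr, e⟩ := exists_partner_left hS (one_mem_invD hS)
  refine ⟨(s, r), ⟨hs, hr, (partner_one_iff hS).1 e⟩, ?_⟩
  rintro ⟨s', r'⟩ ⟨hs', hr', e'⟩
  have h' : Partner Q t s' 1 := ⟨r', hr', (partner_one_iff hS).2 e'⟩
  have hss : s' = s := partner_left_unique hS hs' hs (one_mem_invD hS) h' ⟨r, hr, e⟩
  subst hss
  exact Prod.ext rfl (partner_r_unique hS hs' (one_mem_invD hS) (one_mem_invD hS) hr' hr
    ((partner_one_iff hS).2 e') e)

/-- An element of `D` commuting with `t` commutes with the distinguished involution. -/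
theorem commute_s0 (hS : IsRankOneSetup G Ω a t Q) {s r c : G} (hs : s ∈ invA G a) (hr : r ∈ Q)
    (e : t * s * t = r⁻¹ * t * r) (hc : c ∈ twoPt G a t) (hct : Commute c t) : Commute c s := by
  have e' : t * (c * s * c⁻¹) * t = (c * r * c⁻¹)⁻¹ * t * (c * r * c⁻¹) := by
    calc t * (c * s * c⁻¹) * t = (t * c) * s * (c⁻¹ * t) := by group
      _ = (c * t) * s * (t * c⁻¹) := by rw [hct.eq, hct.inv_left.eq]
      _ = c * (t * s * t) * c⁻¹ := by group
      _ = (c * r⁻¹) * t * (r * c⁻¹) := by rw [e]; group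
      _ = (c * r⁻¹ * c⁻¹) * (c * t * c⁻¹) * (c * r * c⁻¹) := by group
      _ = (c * r * c⁻¹)⁻¹ * t * (c * r * c⁻¹) := by
        rw [show c * t * c⁻¹ = t by rw [hct.eq, mul_inv_cancel_right]]; group
  have hs' : c * s * c⁻¹ ∈ invA G a := by
    obtain ⟨h1, h2, h3⟩ := hs
    refine ⟨?_, conj_ne_one h2, conj_mul_self h3⟩
    exact mul_mem (mul_mem hc.1 h1) (inv_mem hc.1)
  have := congrArg Prod.fst ((exists_unique_pair hS).unique
    (y₁ := (c * s * c⁻¹, c * r * c⁻¹)) (y₂ := (s, r))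
    ⟨hs', hS.conj_mem c hc.1 r hr, e'⟩ ⟨hs, hr, e⟩)
  exact (mul_inv_eq_iff_eq_mul.1 this)

/-- The centraliser of an involution is transitive on the points it moves. -/
theorem exists_commute_smul (hS : IsRankOneSetup G Ω a t Q) {u : G} (hu1 : u ≠ 1)
    (hu : u * u = 1) {b c : Ω} (hb : u • b ≠ b) (hc : u • c ≠ c) :
    ∃ g : G, Commute g u ∧ g • b = c := by
  -- move both pairs to `(a, t • a)` and conjugate to `t`
  have key : ∀ d : Ω, u • d ≠ d → ∃ g : G, g * u * g⁻¹ = t ∧ g • d = a := by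
    intro d hd
    obtain ⟨g, h1, h2⟩ := exists_two hS (Ne.symm hd) (Ne.symm (ta_ne hS))
    have hsw : (g * u * g⁻¹) • a = t • a := by
      rw [mul_smul, mul_smul, ← h2, inv_smul_eq_iff.2 h1.symm]
    obtain ⟨j, hj, hju⟩ := swap_conj_t hS (conj_mul_self hu) hsw
    refine ⟨j * g, ?_, ?_⟩
    · rw [show j * g * u * (j * g)⁻¹ = j * (g * u * g⁻¹) * j⁻¹ by group, ← hju]; group
    · rw [mul_smul, h1]; exact hj.1.1
  obtain ⟨g, hg, hgb⟩ := key b hb
  obtain ⟨k, hk, hkc⟩ := key c hc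
  refine ⟨k⁻¹ * g, ?_, by rw [mul_smul, hgb, inv_smul_eq_iff, hkc]⟩
  have h1 : g * u = t * g := mul_inv_eq_iff_eq_mul.1 hg
  have h2 : u * k⁻¹ = k⁻¹ * t := by
    rw [eq_inv_mul_iff_mul_eq, ← mul_assoc, hk]
  show k⁻¹ * g * u = u * (k⁻¹ * g)
  rw [← mul_assoc, h2, mul_assoc, h1, mul_assoc]

/-- All the `C_D(s)`, `s` an involution fixing `a`, have the order of `C_D(t)`. -/
theorem card_centralizer_eq (hS : IsRankOneSetup G Ω a t Q) {s : G} (hs : s ∈ invA G a) :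
    Nat.card ↥(twoPt G a t ⊓ Subgroup.centralizer {s}) =
      Nat.card ↥(twoPt G a t ⊓ Subgroup.centralizer {t}) := by
  obtain ⟨h1, h2, h3⟩ := hs
  have h1' : s • a = a := h1
  have hsta : s • t • a ≠ t • a := fun h => ta_ne hS (fix_unique hS h2 h3 h h1')
  obtain ⟨g, hg⟩ := all_conj hS hS.ne_one hS.mul_self h2 h3
  -- `g` may be chosen to map `a` to `t • a`
  have hb : t • (g⁻¹ • t • a) ≠ g⁻¹ • t • a := by
    intro h
    apply hsta
    rw [← hg, mul_smul, mul_smul, h, smul_inv_smul]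
  obtain ⟨c, hct, hca⟩ := exists_commute_smul hS hS.ne_one hS.mul_self (ta_ne hS) hb
  have hga : (g * c) • a = t • a := by rw [mul_smul, hca, smul_inv_smul]
  have hgt : (g * c) * t * (g * c)⁻¹ = s := by
    rw [show (g * c) * t * (g * c)⁻¹ = g * (c * t * c⁻¹) * g⁻¹ by group, hct.eq,
      mul_inv_cancel_right, hg]
  generalize g * c = h at hga hgt
  refine (Nat.card_congr (Equiv.subtypeEquiv (MulAut.conj h).toEquiv fun x => ?_)).symm
  show x ∈ twoPt G a t ⊓ Subgroup.centralizer {t} ↔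
    h * x * h⁻¹ ∈ twoPt G a t ⊓ Subgroup.centralizer {s}
  simp only [Subgroup.mem_inf, Subgroup.mem_centralizer_singleton_iff]
  have hcomm : (x * t = t * x) ↔ (h * x * h⁻¹ * s = s * (h * x * h⁻¹)) := by
    rw [← hgt, show h * x * h⁻¹ * (h * t * h⁻¹) = h * (x * t) * h⁻¹ by group,
      show h * t * h⁻¹ * (h * x * h⁻¹) = h * (t * x) * h⁻¹ by group, mul_left_inj, mul_right_inj]
  constructor
  · rintro ⟨⟨hxa, -⟩, hxt⟩
    have hxa' : x • a = a := hxa
    refine ⟨?_, hcomm.1 hxt⟩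
    have hfix : (h * x * h⁻¹) • t • a = t • a := by
      rw [← hga]; exact conj_smul_of_fixed hxa'
    refine ⟨?_, hfix⟩
    show (h * x * h⁻¹) • a = a
    refine fix_unique hS h2 h3 ?_ h1'
    rw [← mul_smul, ← hcomm.1 hxt, mul_smul, h1']
  · rintro ⟨⟨-, hxta⟩, hxs⟩
    have hxta' : (h * x * h⁻¹) • t • a = t • a := hxta
    have hxa : x • a = a := by
      have := conj_smul_of_fixed (g := h⁻¹) hxta'
      rwa [show h⁻¹ * (h * x * h⁻¹) * h⁻¹⁻¹ = x by group, ← hga, inv_smul_smul] at this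
    refine ⟨⟨hxa, ?_⟩, hcomm.2 hxs⟩
    show x • t • a = t • a
    rw [← mul_smul, hcomm.2 hxs, mul_smul, hxa]

theorem centralizer_s0 (hS : IsRankOneSetup G Ω a t Q) {s r : G} (hs : s ∈ invA G a) (hr : r ∈ Q)
    (e : t * s * t = r⁻¹ * t * r) :
    twoPt G a t ⊓ Subgroup.centralizer {t} = twoPt G a t ⊓ Subgroup.centralizer {s} := by
  refine Subgroup.eq_of_le_of_card_ge (fun c hc => ?_) (card_centralizer_eq hS hs).le
  exact ⟨hc.1, Subgroup.mem_centralizer_singleton_iff.2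
    (commute_s0 hS hs hr e hc.1 (Subgroup.mem_centralizer_singleton_iff.1 hc.2))⟩

theorem conj_mem_invA (hS : IsRankOneSetup G Ω a t Q) {s d : G} (hs : s ∈ invA G a)
    (hd : d • a = a) : d⁻¹ * s * d ∈ invA G a := by
  obtain ⟨h1, h2, h3⟩ := hs
  have e : d⁻¹ * s * d = d⁻¹ * s * d⁻¹⁻¹ := by rw [inv_inv]
  refine ⟨mul_mem (mul_mem (inv_mem (mem_stabilizer_iff.2 hd)) h1) (mem_stabilizer_iff.2 hd), ?_, ?_⟩
  · rw [e]; exact conj_ne_one h2
  · rw [e]; exact conj_mul_self h3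

/-- `k ↦ k⁻¹ s₀ k` is a bijection from the inverted elements to the involutions of `G_a`. -/
theorem exists_conj_s0 (hS : IsRankOneSetup G Ω a t Q) {s r : G} (hs : s ∈ invA G a) (hr : r ∈ Q)
    (e : t * s * t = r⁻¹ * t * r) {s' : G} (hs' : s' ∈ invA G a) :
    ∃ k ∈ invD G a t, k⁻¹ * s * k = s' := by
  let f : invD G a t → invA G a := fun k => ⟨_, conj_mem_invA hS hs (d := k.1) k.2.1.1⟩
  have hinj : Function.Injective f := by
    intro k k' h
    have h' : k.1⁻¹ * s * k.1 = k'.1⁻¹ * s * k'.1 := congrArg Subtype.val h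
    have hc : k.1 * k'.1⁻¹ ∈ twoPt G a t ⊓ Subgroup.centralizer {s} := by
      refine ⟨(mul_mem k.2.1 (inv_mem k'.2.1) : _ ∈ twoPt G a t), Subgroup.mem_centralizer_singleton_iff.2 ?_⟩
      calc k.1 * k'.1⁻¹ * s = k.1 * (k'.1⁻¹ * s * k'.1) * k'.1⁻¹ := by group
        _ = k.1 * (k.1⁻¹ * s * k.1) * k'.1⁻¹ := by rw [h']
        _ = s * (k.1 * k'.1⁻¹) := by group
    rw [← centralizer_s0 hS hs hr e] at hc
    have hc' : t * (k.1 * k'.1⁻¹) * t⁻¹ = k.1 * k'.1⁻¹ := by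
      rw [← Subgroup.mem_centralizer_singleton_iff.1 hc.2, mul_inv_cancel_right]
    exact Subtype.ext (fix_mul_inverted_unique hS.odd_card k.2.1 k'.2.1
      (c := 1) (c' := k.1 * k'.1⁻¹) (by group) hc' k.2.2 k'.2.2 (by group)).2
  obtain ⟨k, hk⟩ := (hinj.bijective_of_nat_card_le (card_invD_eq hS).ge).2 ⟨s', hs'⟩
  exact ⟨k, k.2, congrArg Subtype.val hk⟩

/-- For every involution `b` of `G_a`, `k ↦ k⁻¹ b k` is onto the involutions of `G_a`. -/
theorem exists_conj_inverted (hS : IsRankOneSetup G Ω a t Q) {b : G} (hb : b ∈ invA G a)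
    {s' : G} (hs' : s' ∈ invA G a) : ∃ k ∈ invD G a t, k⁻¹ * b * k = s' := by
  obtain ⟨⟨s, r⟩, ⟨hs, hr, e⟩, -⟩ := exists_unique_pair hS
  obtain ⟨k0, hk0, hk0b⟩ := exists_conj_s0 hS hs hr e hb
  let f : invD G a t → invA G a := fun k => ⟨_, conj_mem_invA hS hb (d := k.1) k.2.1.1⟩
  have hinj : Function.Injective f := by
    intro k k' h
    have h' : k.1⁻¹ * b * k.1 = k'.1⁻¹ * b * k'.1 := congrArg Subtype.val h
    rw [← hk0b] at h'
    have hc : (k0 * k.1) * (k0 * k'.1)⁻¹ ∈ twoPt G a t ⊓ Subgroup.centralizer {s} := by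
      refine ⟨(mul_mem (mul_mem hk0.1 k.2.1) (inv_mem (mul_mem hk0.1 k'.2.1)) : _ ∈ twoPt G a t),
        Subgroup.mem_centralizer_singleton_iff.2 ?_⟩
      calc (k0 * k.1) * (k0 * k'.1)⁻¹ * s
          = (k0 * k.1) * (k'.1⁻¹ * (k0⁻¹ * s * k0) * k'.1) * (k0 * k'.1)⁻¹ := by group
        _ = (k0 * k.1) * (k.1⁻¹ * (k0⁻¹ * s * k0) * k.1) * (k0 * k'.1)⁻¹ := by rw [h']
        _ = s * ((k0 * k.1) * (k0 * k'.1)⁻¹) := by group
    rw [← centralizer_s0 hS hs hr e] at hc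
    have hc' : t * ((k0 * k.1) * (k0 * k'.1)⁻¹) * t⁻¹ = (k0 * k.1) * (k0 * k'.1)⁻¹ := by
      rw [← Subgroup.mem_centralizer_singleton_iff.1 hc.2, mul_inv_cancel_right]
    have hk2 := hk0.2
    -- hence `k k0^2 k = k' k0^2 k'`
    have h2 : k.1 * (k0 * k0) * k.1 = k'.1 * (k0 * k0) * k'.1 := by
      have e1 : ∀ x : invD G a t, (t * (k0 * x.1) * t⁻¹)⁻¹ * (k0 * x.1) = x.1 * (k0 * k0) * x.1 := by
        intro x
        rw [show t * (k0 * x.1) * t⁻¹ = (t * k0 * t⁻¹) * (t * x.1 * t⁻¹) by group, hk2, x.2.2]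
        group
      rw [← e1, ← e1]
      rw [show t * (k0 * k.1 * (k0 * k'.1)⁻¹) * t⁻¹
        = (t * (k0 * k.1) * t⁻¹) * (t * (k0 * k'.1) * t⁻¹)⁻¹ by group] at hc'
      generalize t * (k0 * k.1) * t⁻¹ = A at hc' ⊢
      generalize t * (k0 * k'.1) * t⁻¹ = A' at hc' ⊢
      calc A⁻¹ * (k0 * k.1) = A⁻¹ * (k0 * k.1 * (k0 * k'.1)⁻¹) * (k0 * k'.1) := by group
        _ = A⁻¹ * (A * A'⁻¹) * (k0 * k'.1) := by rw [hc']
        _ = A'⁻¹ * (k0 * k'.1) := by group
    obtain ⟨r0, hr0, hr0r0⟩ := exists_sqrt hS.odd_card (mul_mem hk0.1 hk0.1)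
    have hr0D : r0 ∈ twoPt G a t := Subgroup.zpowers_le.2 (mul_mem hk0.1 hk0.1) hr0
    have h3 : r0 * k.1 * r0 = r0 * k'.1 * r0 := by
      refine eq_of_sq_eq hS.odd_card (mul_mem (mul_mem hr0D k.2.1) hr0D)
        (mul_mem (mul_mem hr0D k'.2.1) hr0D) ?_
      calc r0 * k.1 * r0 * (r0 * k.1 * r0) = r0 * (k.1 * (r0 * r0) * k.1) * r0 := by group
        _ = r0 * (k'.1 * (r0 * r0) * k'.1) * r0 := by rw [hr0r0, h2]
        _ = r0 * k'.1 * r0 * (r0 * k'.1 * r0) := by group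
    exact Subtype.ext (mul_left_cancel (mul_right_cancel h3))
  obtain ⟨k, hk⟩ := (hinj.bijective_of_nat_card_le (card_invD_eq hS).ge).2 ⟨s', hs'⟩
  exact ⟨k, k.2, congrArg Subtype.val hk⟩

end Cfsg.Agent.RankOne
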