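import Cfsg.Agent.Lib.RankOne.FixedSet
import Cfsg.Agent.Lib.PComplement.FixedPointFree
import Cfsg.Agent.Lib.PGroup.Basic

/-!
With two commuting involutions: `Q` is nilpotent, the involutions of `G_a` are central in `Q`, and
products of two involutions with different fixed points have centralisers of odd order.
-/

set_option autoImplicit false

namespace Cfsg.Agent.RankOne

open MulAction

variable {G Ω : Type*} [Group G] [MulAction G Ω] {a : Ω} {t : G} {Q : Subgroup G} [Finite G]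

/-- Two commuting involutions give two involutions fixing `a`. -/
theorem exists_ne_invA (hS : IsRankOneSetup G Ω a t Q)
    (h2 : ∃ x y : G, x ≠ 1 ∧ y ≠ 1 ∧ x ≠ y ∧ x * x = 1 ∧ y * y = 1 ∧ x * y = y * x) :
    ∃ s ∈ invA G a, ∃ s' ∈ invA G a, s ≠ s' := by
  obtain ⟨x, y, hx1, hy1, hne, hx, hy, hc⟩ := h2
  obtain ⟨b, hb, -⟩ := exists_fix hS hx1 hx
  have hyb : y • b = b :=
    fix_unique hS hx1 hx (by rw [← mul_smul, hc, mul_smul, hb]) hb
  obtain ⟨g, hg⟩ := exists_smul hS b a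
  refine ⟨g * x * g⁻¹, ⟨?_, conj_ne_one hx1, conj_mul_self hx⟩,
    g * y * g⁻¹, ⟨?_, conj_ne_one hy1, conj_mul_self hy⟩,
    fun h => hne (mul_left_cancel (mul_right_cancel h))⟩
  · show (g * x * g⁻¹) • a = a
    rw [← hg]; exact conj_smul_of_fixed hb
  · show (g * y * g⁻¹) • a = a
    rw [← hg]; exact conj_smul_of_fixed hyb

theorem exists_invD_ne_one (hS : IsRankOneSetup G Ω a t Q)
    (h2 : ∃ x y : G, x ≠ 1 ∧ y ≠ 1 ∧ x ≠ y ∧ x * x = 1 ∧ y * y = 1 ∧ x * y = y * x) :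
    ∃ x ∈ invD G a t, x ≠ 1 := by
  obtain ⟨s, hs, s', hs', hne⟩ := exists_ne_invA hS h2
  obtain ⟨k, hk, hks⟩ := exists_conj_inverted hS hs hs'
  exact ⟨k, hk, fun h => hne (by rw [← hks, h]; group)⟩

theorem isNilpotent_Q (hS : IsRankOneSetup G Ω a t Q)
    (h2 : ∃ x y : G, x ≠ 1 ∧ y ≠ 1 ∧ x ≠ y ∧ x * x = 1 ∧ y * y = 1 ∧ x * y = y * x) :
    Group.IsNilpotent Q := by
  obtain ⟨x0, hx0, hx01⟩ := exists_invD_ne_one hS h2
  obtain ⟨p, hp, hdvd⟩ := Nat.exists_prime_and_dvd (n := orderOf x0)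
    (fun h => hx01 (orderOf_eq_one_iff.1 h))
  have : Fact p.Prime := ⟨hp⟩
  let y := x0 ^ (orderOf x0 / p)
  have hyord : orderOf y = p := orderOf_pow_orderOf_div (orderOf_pos x0).ne' hdvd
  have hy : y ∈ invD G a t :=
    ⟨pow_mem hx0.1 _, conj_zpowers_inv hx0.2 (Subgroup.npow_mem_zpowers x0 _)⟩
  have hy1 : y ≠ 1 := fun h => hp.one_lt.ne' (by rw [← hyord, h, orderOf_one])
  let α : MulAut Q :=
    { toFun := fun q => ⟨y * q.1 * y⁻¹, hS.conj_mem y hy.1.1 q q.2⟩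
      invFun := fun q => ⟨y⁻¹ * q.1 * y,
        by simpa using hS.conj_mem y⁻¹ (inv_mem hy.1.1) q q.2⟩
      left_inv := fun q => Subtype.ext (by simp [mul_assoc])
      right_inv := fun q => Subtype.ext (by simp [mul_assoc])
      map_mul' := fun q r => Subtype.ext (by simp [mul_assoc]) }
  have hpow : ∀ (k : ℕ) (q : Q), ((α ^ k) q).1 = y ^ k * q.1 * (y ^ k)⁻¹ := by
    intro k
    induction k with
    | zero => intro q; simp
    | succ k ih =>
      intro q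
      rw [pow_succ, MulAut.mul_apply, ih, pow_succ]
      show y ^ k * (y * q.1 * y⁻¹) * (y ^ k)⁻¹ = _
      group
  refine PComplement.isNilpotent_of_fpf (p := p) Q α (MulEquiv.ext fun q => Subtype.ext ?_) fun q hq => ?_
  · rw [hpow, ← hyord, pow_orderOf_eq_one]; simp
  · refine Subtype.ext (inverted_fpf hS hy hy1 q.2 ?_)
    exact (mul_inv_eq_iff_eq_mul.1 (congrArg Subtype.val hq)).symm

/-- The involutions fixing `a` are central in `Q`. -/
theorem invA_central (hS : IsRankOneSetup G Ω a t Q)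
    (h2 : ∃ x y : G, x ≠ 1 ∧ y ≠ 1 ∧ x ≠ y ∧ x * x = 1 ∧ y * y = 1 ∧ x * y = y * x)
    {s : G} (hs : s ∈ invA G a) : s ∈ Q ∧ ∀ x ∈ Q, s * x = x * s := by
  refine ⟨mem_Q_of_inv hS hs.2.1 hs.2.2 hs.1, ?_⟩
  have hnil := isNilpotent_Q hS h2
  have : Fact (Nat.Prime 2) := ⟨Nat.prime_two⟩
  have hnorm : ∀ (r : ℕ) [Fact r.Prime] (R : Sylow r Q), (R : Subgroup Q).Normal :=
    fun r hr R => ((Group.isNilpotent_of_finite_tfae (G := Q)).out 0 3 rfl rfl).1 hnil r hr R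
  obtain ⟨P⟩ := (inferInstance : Nonempty (Sylow 2 Q))
  have hP : (P : Subgroup Q) ≠ ⊥ := P.ne_bot_of_dvd_card hS.even_card.two_dvd
  have : Nontrivial (P : Subgroup Q) := (Subgroup.nontrivial_iff_ne_bot _).2 hP
  have := P.2.center_nontrivial
  obtain ⟨z, hz⟩ := exists_prime_orderOf_dvd_card' (G := Subgroup.center (P : Subgroup Q)) 2 (by
    obtain ⟨k, hk, hkc⟩ := (P.2.to_subgroup (Subgroup.center _)).nontrivial_iff_card.1 this
    rw [hkc]; exact dvd_pow_self 2 hk.ne')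
  set z' : Q := (z.1 : Q) with hz'
  have hord : orderOf z' = 2 := by rw [hz', Subgroup.orderOf_coe, Subgroup.orderOf_coe, hz]
  have hcent : z' ∈ Subgroup.center Q := by
    have htop : Subgroup.centralizer ({z'} : Set Q) = ⊤ := by
      refine Subgroup.eq_top_of_le_card _ (Nat.le_of_dvd Nat.card_pos ?_)
      rw [← Nat.factorization_prime_le_iff_dvd Nat.card_pos.ne' Nat.card_pos.ne']
      intro r hr
      have : Fact r.Prime := ⟨hr⟩
      rw [← hr.pow_dvd_iff_le_factorization Nat.card_pos.ne']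
      obtain ⟨R⟩ := (inferInstance : Nonempty (Sylow r Q))
      rw [← R.card_eq_multiplicity]
      refine Subgroup.card_dvd_of_le fun w hw => Subgroup.mem_centralizer_singleton_iff.2 ?_
      by_cases h : r = 2
      · subst h
        obtain ⟨g, hg⟩ := exists_smul_eq Q P R
        have hRP : (R : Subgroup Q) = P := by
          rw [← hg, Sylow.coe_subgroup_smul]
          exact @Subgroup.Normal.conj_smul_eq_self _ _ g _ (hnorm 2 P)
        rw [hRP] at hw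
        exact congrArg Subtype.val (Subgroup.mem_center_iff.1 z.2 ⟨w, hw⟩)
      · refine (Subgroup.commute_of_normal_of_disjoint _ _ (hnorm r R) (hnorm 2 P) ?_ w z' hw
          z.1.2).eq
        exact IsPGroup.disjoint_of_ne r 2 h _ _ R.2 P.2
    rw [Subgroup.mem_center_iff]
    intro g
    exact Subgroup.mem_centralizer_singleton_iff.1 (htop ▸ Subgroup.mem_top g)
  have hzA : (z' : G) ∈ invA G a :=
    ⟨hS.le z'.2, fun h => by rw [show z' = 1 from Subtype.ext h, orderOf_one] at hord; omega,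
      congrArg Subtype.val (Involution.sq_of_orderOf_two hord)⟩
  obtain ⟨k, hk, rfl⟩ := exists_conj_inverted hS hzA hs
  intro x hx
  have hx' : k * x * k⁻¹ ∈ Q := hS.conj_mem k hk.1.1 x hx
  have h := congrArg Subtype.val (Subgroup.mem_center_iff.1 hcent ⟨_, hx'⟩)
  simp only [Subgroup.coe_mul] at h
  calc k⁻¹ * z' * k * x = k⁻¹ * (z' * (k * x * k⁻¹)) * k := by group
    _ = k⁻¹ * (k * x * k⁻¹ * z') * k := by rw [h]
    _ = x * (k⁻¹ * z' * k) := by group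

theorem invA_commute (hS : IsRankOneSetup G Ω a t Q)
    (h2 : ∃ x y : G, x ≠ 1 ∧ y ≠ 1 ∧ x ≠ y ∧ x * x = 1 ∧ y * y = 1 ∧ x * y = y * x)
    {s s' : G} (hs : s ∈ invA G a) (hs' : s' ∈ invA G a) : (s * s') * (s * s') = 1 := by
  calc (s * s') * (s * s') = s * (s' * s) * s' := by group
    _ = s * (s * s') * s' := by rw [(invA_central hS h2 hs).2 s' (invA_central hS h2 hs').1]
    _ = (s * s) * (s' * s') := by group
    _ = 1 := by rw [hs.2.2, hs'.2.2, one_mul]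

/-- Involutions whose product is not an involution have different fixed points. -/
theorem fix_ne_of_mul (hS : IsRankOneSetup G Ω a t Q)
    (h2 : ∃ x y : G, x ≠ 1 ∧ y ≠ 1 ∧ x ≠ y ∧ x * x = 1 ∧ y * y = 1 ∧ x * y = y * x)
    {u v : G} (hu1 : u ≠ 1) (hu : u * u = 1) (hv1 : v ≠ 1) (hv : v * v = 1)
    (hx : (u * v) * (u * v) ≠ 1) {b : Ω} (hub : u • b = b) : v • b ≠ b := by
  intro hvb
  obtain ⟨g, hg⟩ := exists_smul hS b a
  have h1 := invA_commute hS h2 (s := g * u * g⁻¹) (s' := g * v * g⁻¹)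
    ⟨show (g * u * g⁻¹) • a = a by rw [← hg]; exact conj_smul_of_fixed hub,
      conj_ne_one hu1, conj_mul_self hu⟩
    ⟨show (g * v * g⁻¹) • a = a by rw [← hg]; exact conj_smul_of_fixed hvb,
      conj_ne_one hv1, conj_mul_self hv⟩
  apply hx
  rw [← conj_eq_one_iff (a := g) (b := u * v * (u * v))]
  rw [← h1]; group

theorem exists_conj_mul_t (hS : IsRankOneSetup G Ω a t Q)
    (h2 : ∃ x y : G, x ≠ 1 ∧ y ≠ 1 ∧ x ≠ y ∧ x * x = 1 ∧ y * y = 1 ∧ x * y = y * x)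
    {u v : G} (hu1 : u ≠ 1) (hu : u * u = 1) (hv1 : v ≠ 1) (hv : v * v = 1)
    (hx : (u * v) * (u * v) ≠ 1) :
    ∃ g : G, ∃ u' ∈ invA G a, g * (u * v) * g⁻¹ = u' * t := by
  obtain ⟨b, hub, -⟩ := exists_fix hS hu1 hu
  obtain ⟨c, hvc, -⟩ := exists_fix hS hv1 hv
  have hbc : b ≠ c := fun h => fix_ne_of_mul hS h2 hu1 hu hv1 hv hx hub (h ▸ hvc)
  obtain ⟨g, hgb, hgc⟩ := exists_two hS hbc (Ne.symm (ta_ne hS))
  obtain ⟨e, he, -⟩ := exists_fix hS hS.ne_one hS.mul_self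
  have hea : e ≠ a := fun h => ta_ne hS (h ▸ he)
  obtain ⟨q, hq, hqe⟩ := exists_q hS hea (ta_ne hS)
  have hcv := conj_smul_of_fixed (g := g) hvc
  rw [hgc] at hcv
  have hct := conj_smul_of_fixed (g := q) he
  rw [hqe] at hct
  have mA : ∀ w : G, w ≠ 1 → w * w = 1 → w • t • a = t • a → t * w * t⁻¹ ∈ invA G a := by
    intro w hw1 hw hwf
    refine ⟨?_, conj_ne_one hw1, conj_mul_self hw⟩
    show (t * w * t⁻¹) • a = a
    rw [t_inv hS, mul_smul, mul_smul, hwf, t_ta hS]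
  obtain ⟨k, hk, hkv⟩ := exists_conj_inverted hS
    (mA _ (conj_ne_one hv1) (conj_mul_self hv) hcv)
    (mA _ (conj_ne_one hS.ne_one) (conj_mul_self hS.mul_self) hct)
  have htk : t⁻¹ * k⁻¹ * t = k := by
    calc t⁻¹ * k⁻¹ * t = t⁻¹ * (t * k * t⁻¹) * t := by rw [hk.2]
      _ = k := by group
  have hkey : k * (g * v * g⁻¹) * k⁻¹ = q * t * q⁻¹ := by
    calc k * (g * v * g⁻¹) * k⁻¹
        = (t⁻¹ * k⁻¹ * t) * (g * v * g⁻¹) * (t⁻¹ * k⁻¹ * t)⁻¹ := by rw [htk]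
      _ = t⁻¹ * (k⁻¹ * (t * (g * v * g⁻¹) * t⁻¹) * k) * t := by group
      _ = q * t * q⁻¹ := by rw [hkv]; group
  have hfix : (q⁻¹ * k * g) • b = a := by
    rw [mul_smul, mul_smul, hgb, show k • a = a from hk.1.1, smul_self_of_mem hS (inv_mem hq)]
  refine ⟨q⁻¹ * k * g, (q⁻¹ * k * g) * u * (q⁻¹ * k * g)⁻¹,
    ⟨show ((q⁻¹ * k * g) * u * (q⁻¹ * k * g)⁻¹) • a = a by
      conv_lhs => arg 2; rw [← hfix]
      rw [conj_smul_of_fixed hub, hfix],
      conj_ne_one hu1, conj_mul_self hu⟩, ?_⟩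
  calc q⁻¹ * k * g * (u * v) * (q⁻¹ * k * g)⁻¹
      = q⁻¹ * k * g * u * (q⁻¹ * k * g)⁻¹ * (q⁻¹ * (k * (g * v * g⁻¹) * k⁻¹) * q) := by group
    _ = q⁻¹ * k * g * u * (q⁻¹ * k * g)⁻¹ * t := by rw [hkey]; group

theorem odd_card_centralizer_mul (hS : IsRankOneSetup G Ω a t Q)
    (h2 : ∃ x y : G, x ≠ 1 ∧ y ≠ 1 ∧ x ≠ y ∧ x * x = 1 ∧ y * y = 1 ∧ x * y = y * x)
    {u v : G} (hu1 : u ≠ 1) (hu : u * u = 1) (hv1 : v ≠ 1) (hv : v * v = 1)
    (hx : (u * v) * (u * v) ≠ 1) : Odd (Nat.card ↥(Subgroup.centralizer {u * v})) := by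
  rw [← Nat.not_even_iff_odd]
  intro heven
  have : Fact (Nat.Prime 2) := ⟨Nat.prime_two⟩
  obtain ⟨z, hzord⟩ := exists_prime_orderOf_dvd_card' (G := Subgroup.centralizer {u * v}) 2
    heven.two_dvd
  have hz1 : (z : G) ≠ 1 := fun h => by
    rw [show z = 1 from Subtype.ext h, orderOf_one] at hzord; omega
  have hzz : (z : G) * z = 1 := congrArg Subtype.val (Involution.sq_of_orderOf_two hzord)
  have hzw : (z : G) * (u * v) = u * v * z := Subgroup.mem_centralizer_singleton_iff.1 z.2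
  generalize (z : G) = w at hz1 hzz hzw
  obtain ⟨f, hf, -⟩ := exists_fix hS hz1 hzz
  have hwf : (u * v) • f = f :=
    fix_unique hS hz1 hzz (by rw [← mul_smul, hzw, mul_smul, hf]) hf
  have hvf : v • f = u • f := by
    rw [mul_smul] at hwf
    conv_rhs => rw [← hwf, smul_smul_self hu]
  have huf : u • f ≠ f := fun h =>
    fix_ne_of_mul hS h2 hu1 hu hv1 hv hx h (hvf.trans h)
  obtain ⟨g, hgf, hgf'⟩ := exists_two hS (Ne.symm huf) (Ne.symm (ta_ne hS))
  have hsw : (g * u * g⁻¹) • a = t • a := by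
    rw [← hgf', mul_smul, mul_smul, inv_smul_eq_iff.2 hgf.symm]
  obtain ⟨j, hj, hju⟩ := swap_conj_t hS (conj_mul_self hu) hsw
  have hjg : (j * g) • f = a := by rw [mul_smul, hgf]; exact hj.1.1
  have hjg' : (j * g) • u • f = t • a := by rw [mul_smul, hgf']; exact hj.1.2
  have hT : t = (j * g) * u * (j * g)⁻¹ := by
    calc t = j * (j⁻¹ * t * j) * j⁻¹ := by group
      _ = (j * g) * u * (j * g)⁻¹ := by rw [hju]; group
  generalize j * g = h at hjg hjg' hT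
  have hx1 : h * (u * v) * h⁻¹ ∈ invD G a t := by
    refine ⟨mem_twoPt (by rw [← hjg]; exact conj_smul_of_fixed hwf) ?_, ?_⟩
    · rw [← hjg']
      refine conj_smul_of_fixed ?_
      rw [← hvf, mul_smul, smul_smul_self hv]
      exact hvf.symm
    · rw [hT]
      calc h * u * h⁻¹ * (h * (u * v) * h⁻¹) * (h * u * h⁻¹)⁻¹
          = h * ((u * u) * v * u⁻¹) * h⁻¹ := by group
        _ = h * (v⁻¹ * u⁻¹) * h⁻¹ := by rw [hu, one_mul, invol_inv hv]
        _ = (h * (u * v) * h⁻¹)⁻¹ := by group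
  have hx11 : h * (u * v) * h⁻¹ ≠ 1 := conj_ne_one fun e => hx (by rw [e, one_mul])
  have hz' := conj_smul_of_fixed (g := h) hf
  rw [hjg] at hz'
  refine conj_ne_one (g := h) hz1 (inverted_fpf hS hx1 hx11
    (mem_Q_of_inv hS (conj_ne_one hz1) (conj_mul_self hzz) hz') ?_)
  calc h * w * h⁻¹ * (h * (u * v) * h⁻¹) = h * (w * (u * v)) * h⁻¹ := by group
    _ = h * (u * v * w) * h⁻¹ := by rw [hzw]
    _ = h * (u * v) * h⁻¹ * (h * w * h⁻¹) := by group

end Cfsg.Agent.RankOne
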