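import Cfsg.Agent.Lib.RankOne.Inverted
import Cfsg.Agent.Lib.Involution.Dihedral
import Cfsg.Agent.Lib.Perm.Transitive

/-!
The standing rank-one set-up `Cfsg.IsRankOneSetup`: regularity of `Q`, involutions, their fixed
points and their conjugacy, the bijection between `involutionsIn G_a` and the inverted elements
of the two-point stabiliser.
-/

set_option autoImplicit false

namespace Cfsg.Agent.RankOne

open MulAction

variable {G Ω : Type*} [Group G] [MulAction G Ω] {a : Ω} {t : G} {Q : Subgroup G}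

/-- The two-point stabiliser. -/
abbrev twoPt (G : Type*) {Ω : Type*} [Group G] [MulAction G Ω] (a : Ω) (t : G) : Subgroup G :=
  stabilizer G a ⊓ stabilizer G (t • a)

theorem t_inv (hS : IsRankOneSetup G Ω a t Q) : t⁻¹ = t := invol_inv hS.mul_self

theorem ta_ne (hS : IsRankOneSetup G Ω a t Q) : t • a ≠ a := fun h => hS.not_mem h

theorem t_ta (hS : IsRankOneSetup G Ω a t Q) : t • t • a = a := by
  rw [← mul_smul, hS.mul_self, one_smul]

theorem smul_self_of_mem (hS : IsRankOneSetup G Ω a t Q) {q : G} (hq : q ∈ Q) : q • a = a :=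
  hS.le hq

theorem smul_smul_self {u : G} (hu : u * u = 1) (b : Ω) : u • u • b = b := by
  rw [← mul_smul, hu, one_smul]

theorem conj_smul_of_fixed {g x : G} {b : Ω} (h : x • b = b) :
    (g * x * g⁻¹) • (g • b) = g • b := by
  rw [← mul_smul, inv_mul_cancel_right, mul_smul, h]

theorem conj_ne_one {g x : G} (h : x ≠ 1) : g * x * g⁻¹ ≠ 1 := fun e => h (conj_eq_one_iff.1 e)

theorem conj_mul_self {g x : G} (h : x * x = 1) : (g * x * g⁻¹) * (g * x * g⁻¹) = 1 := by
  rw [show (g * x * g⁻¹) * (g * x * g⁻¹) = g * (x * x) * g⁻¹ by group, h]; group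

theorem conj_twoPt (hS : IsRankOneSetup G Ω a t Q) {d : G} (hd : d ∈ twoPt G a t) :
    t * d * t⁻¹ ∈ twoPt G a t := by
  obtain ⟨h1, h2⟩ := hd
  have h1' : d • a = a := h1
  have h2' : d • t • a = t • a := h2
  refine ⟨?_, ?_⟩
  · show (t * d * t⁻¹) • a = a
    rw [t_inv hS, mul_smul, mul_smul, h2', t_ta hS]
  · show (t * d * t⁻¹) • t • a = t • a
    rw [t_inv hS, mul_smul, mul_smul, t_ta hS, h1']

/-- A non-identity element of `Q` fixes only `a`. -/
theorem eq_of_fixed (hS : IsRankOneSetup G Ω a t Q) {q : G} (hq : q ∈ Q) (hq1 : q ≠ 1) {b : Ω}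
    (hb : q • b = b) : b = a := by
  by_contra hne
  obtain ⟨g, hg, hgb⟩ := Perm.exists_stabilizer_smul_eq hS.two_transitive (ta_ne hS) hne
  have hmem : g⁻¹ * q * g⁻¹⁻¹ ∈ Q ⊓ stabilizer G (t • a) := by
    refine ⟨hS.conj_mem _ (inv_mem hg) q hq, ?_⟩
    show (g⁻¹ * q * g⁻¹⁻¹) • t • a = t • a
    rw [inv_inv, mul_smul, mul_smul, hgb, hb, ← hgb,
      inv_smul_smul]
  rw [hS.inf_eq_bot, Subgroup.mem_bot] at hmem
  exact hq1 (conj_eq_one_iff.1 hmem)

/-- Every element of `G_a` lies in `q D` for some `q ∈ Q`. -/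
theorem exists_mem_mul (hS : IsRankOneSetup G Ω a t Q) {g : G} (hg : g ∈ stabilizer G a) :
    ∃ q ∈ Q, ∃ d ∈ twoPt G a t, q * d = g := by
  have hle : twoPt G a t ≤ Subgroup.normalizer (Q : Set G) := by
    intro d hd
    rw [Subgroup.mem_normalizer_iff]
    refine fun x => ⟨fun hx => hS.conj_mem d hd.1 x hx, fun hx => ?_⟩
    have h := hS.conj_mem d⁻¹ (inv_mem hd.1) _ hx
    rwa [show d⁻¹ * (d * x * d⁻¹) * d⁻¹⁻¹ = x by group] at h
  have hg' : g ∈ ((Q ⊔ twoPt G a t : Subgroup G) : Set G) := by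
    rw [SetLike.mem_coe, hS.sup_eq]; exact hg
  rw [Subgroup.coe_mul_of_right_le_normalizer_left Q (twoPt G a t) hle] at hg'
  obtain ⟨q, hq, d, hd, h⟩ := Set.mem_mul.1 hg'
  exact ⟨q, hq, d, hd, h⟩

theorem exists_q_smul_ta (hS : IsRankOneSetup G Ω a t Q) {b : Ω} (hb : b ≠ a) :
    ∃ q ∈ Q, q • (t • a) = b := by
  obtain ⟨g, hg, hgb⟩ := Perm.exists_stabilizer_smul_eq hS.two_transitive (ta_ne hS) hb
  obtain ⟨q, hq, d, hd, rfl⟩ := exists_mem_mul hS hg
  exact ⟨q, hq, by rw [mul_smul, hd.2] at hgb; exact hgb⟩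

theorem smul_ne_a (hS : IsRankOneSetup G Ω a t Q) {g : G} (hg : g • a = a) {b : Ω} (hb : b ≠ a) :
    g • b ≠ a := fun e => hb (smul_left_cancel g (e.trans hg.symm))

theorem q_unique (hS : IsRankOneSetup G Ω a t Q) {q q' : G} {b : Ω} (hb : b ≠ a) (hq : q ∈ Q)
    (hq' : q' ∈ Q) (h : q • b = q' • b) : q = q' := by
  by_contra hne
  exact hb (eq_of_fixed hS (mul_mem (inv_mem hq') hq)
    (fun e => hne (inv_mul_eq_one.1 e).symm) (by rw [mul_smul, h, inv_smul_smul]))

theorem exists_unique_q (hS : IsRankOneSetup G Ω a t Q) {b c : Ω} (hb : b ≠ a) (hc : c ≠ a) :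
    ∃! x : Q, (x : G) • b = c := by
  obtain ⟨q, hq, hqb⟩ := exists_q_smul_ta hS hb
  obtain ⟨r, hr, hrc⟩ := exists_q_smul_ta hS hc
  have key : (r * q⁻¹) • b = c := by rw [mul_smul, ← hqb, inv_smul_smul, hrc]
  refine ⟨⟨r * q⁻¹, mul_mem hr (inv_mem hq)⟩, key, ?_⟩
  intro y hy
  exact Subtype.ext (q_unique hS hb y.2 (mul_mem hr (inv_mem hq)) (hy.trans key.symm))

theorem exists_q (hS : IsRankOneSetup G Ω a t Q) {b c : Ω} (hb : b ≠ a) (hc : c ≠ a) :
    ∃ q ∈ Q, q • b = c :=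
  let ⟨x, hx, _⟩ := exists_unique_q hS hb hc
  ⟨x, x.2, hx⟩

theorem isPretransitive (hS : IsRankOneSetup G Ω a t Q) : IsPretransitive G Ω :=
  have := hS.two_transitive
  isPretransitive_of_is_two_pretransitive

theorem exists_smul (hS : IsRankOneSetup G Ω a t Q) (b c : Ω) : ∃ g : G, g • b = c :=
  have := isPretransitive hS
  exists_smul_eq G b c

theorem exists_two (hS : IsRankOneSetup G Ω a t Q) {b c d e : Ω} (h : b ≠ c) (h' : d ≠ e) :
    ∃ g : G, g • b = d ∧ g • c = e := Perm.exists_smul_eq_two hS.two_transitive h h'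

/-! ### counting -/

theorem option_bijective (hS : IsRankOneSetup G Ω a t Q) :
    Function.Bijective (fun o : Option Q => o.elim a (fun q => (q : G) • (t • a))) := by
  refine ⟨?_, fun b => ?_⟩
  · rintro (_ | x) (_ | y) h
    · rfl
    · exact absurd h.symm (smul_ne_a hS (smul_self_of_mem hS y.2) (ta_ne hS))
    · exact absurd h (smul_ne_a hS (smul_self_of_mem hS x.2) (ta_ne hS))
    · exact congrArg some (Subtype.ext (q_unique hS (ta_ne hS) x.2 y.2 h))
  · by_cases hb : b = a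
    · exact ⟨none, hb.symm⟩
    · obtain ⟨q, hq, hqb⟩ := exists_q_smul_ta hS hb
      exact ⟨some ⟨q, hq⟩, hqb⟩

variable [Finite G]

theorem finite_omega (hS : IsRankOneSetup G Ω a t Q) : Finite Ω :=
  Finite.of_surjective _ (option_bijective hS).2

theorem card_omega (hS : IsRankOneSetup G Ω a t Q) : Nat.card Ω = Nat.card Q + 1 := by
  rw [← Nat.card_eq_of_bijective _ (option_bijective hS), Finite.card_option]

theorem card_stabilizer (hS : IsRankOneSetup G Ω a t Q) :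
    Nat.card ↥(stabilizer G a) = Nat.card Q * Nat.card ↥(twoPt G a t) := by
  rw [← Nat.card_prod]
  refine (Nat.card_eq_of_bijective
    (fun p : Q × twoPt G a t => (⟨p.1.1 * p.2.1, mul_mem (hS.le p.1.2) p.2.2.1⟩ : stabilizer G a))
    ⟨?_, ?_⟩).symm
  · rintro ⟨q, d⟩ ⟨q', d'⟩ h
    have h' : q.1 * d.1 = q'.1 * d'.1 := congrArg Subtype.val h
    have hq : q.1 = q'.1 := by
      refine q_unique hS (ta_ne hS) q.2 q'.2 ?_
      have h1 := congrArg (fun g : G => g • (t • a)) h'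
      simp only [mul_smul] at h1
      have e1 : d.1 • (t • a) = t • a := d.2.2
      have e2 : d'.1 • (t • a) = t • a := d'.2.2
      rwa [e1, e2] at h1
    have hd : d.1 = d'.1 := by rw [hq] at h'; exact mul_left_cancel h'
    exact Prod.ext (Subtype.ext hq) (Subtype.ext hd)
  · rintro ⟨g, hg⟩
    obtain ⟨q, hq, d, hd, rfl⟩ := exists_mem_mul hS hg
    exact ⟨(⟨q, hq⟩, ⟨d, hd⟩), rfl⟩

theorem card_group (hS : IsRankOneSetup G Ω a t Q) :
    Nat.card G = Nat.card Q * Nat.card ↥(twoPt G a t) * (Nat.card Q + 1) := by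
  have := isPretransitive hS
  rw [← card_stabilizer hS, ← card_omega hS, ← index_stabilizer_of_transitive G a,
    Subgroup.card_mul_index]

theorem exists_sylow_le (hS : IsRankOneSetup G Ω a t Q) :
    ∃ P : Sylow 2 G, (P : Subgroup G) ≤ Q := by
  have : Fact (Nat.Prime 2) := ⟨Nat.prime_two⟩
  obtain ⟨P0⟩ := (inferInstance : Nonempty (Sylow 2 Q))
  refine ⟨Sylow.ofCard ((P0 : Subgroup Q).map Q.subtype) ?_, ?_⟩
  · rw [Subgroup.card_map_of_injective Q.subtype_injective, Sylow.card_eq_multiplicity]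
    congr 1
    have hQ : Nat.card Q ≠ 0 := Nat.card_pos.ne'
    have hodd : ∀ n : ℕ, Odd n → n.factorization 2 = 0 := fun n hn =>
      Nat.factorization_eq_zero_of_not_dvd (fun h => by
        obtain ⟨k, hk⟩ := hn; omega)
    have hD := hS.odd_card
    have hQ1 : Odd (Nat.card Q + 1) := hS.even_card.add_one
    rw [card_group hS, Nat.factorization_mul (mul_ne_zero hQ Nat.card_pos.ne') (by omega),
      Nat.factorization_mul hQ Nat.card_pos.ne', Finsupp.add_apply, Finsupp.add_apply,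
      hodd _ hD, hodd _ hQ1, add_zero, add_zero]
  · show (P0 : Subgroup Q).map Q.subtype ≤ Q
    exact Subgroup.map_subtype_le _

theorem exists_conj_mem (hS : IsRankOneSetup G Ω a t Q) {u : G} (hu : u * u = 1) :
    ∃ g : G, g * u * g⁻¹ ∈ Q := by
  have : Fact (Nat.Prime 2) := ⟨Nat.prime_two⟩
  obtain ⟨P, hP⟩ := exists_sylow_le hS
  have hp : IsPGroup 2 (Subgroup.zpowers u) := by
    intro x
    obtain ⟨k, hk⟩ := Subgroup.mem_zpowers_iff.1 x.2
    refine ⟨1, Subtype.ext ?_⟩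
    rw [SubmonoidClass.coe_pow, ← hk, ← zpow_natCast, ← zpow_mul, mul_comm, zpow_mul,
      OneMemClass.coe_one, pow_one, zpow_natCast, pow_two, hu, one_zpow]
  obtain ⟨P', hP'⟩ := hp.exists_le_sylow
  have : Finite (Sylow 2 G) := inferInstance
  obtain ⟨g, rfl⟩ := exists_smul_eq G P' P
  refine ⟨g, hP ?_⟩
  show g * u * g⁻¹ ∈ ((g • P' : Sylow 2 G) : Subgroup G)
  rw [Sylow.coe_subgroup_smul]
  exact Subgroup.smul_mem_pointwise_smul u (MulAut.conj g) _ (hP' (Subgroup.mem_zpowers u))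

/-- An involution fixes exactly one point. -/
theorem exists_fix (hS : IsRankOneSetup G Ω a t Q) {u : G} (hu1 : u ≠ 1) (hu : u * u = 1) :
    ∃ b : Ω, u • b = b ∧ ∀ c, u • c = c → c = b := by
  obtain ⟨g, hg⟩ := exists_conj_mem hS hu
  have hb : u • (g⁻¹ • a) = g⁻¹ • a := by
    have h1 : (g * u * g⁻¹) • a = a := smul_self_of_mem hS hg
    rw [mul_smul, mul_smul] at h1
    exact eq_inv_smul_iff.2 h1
  exact ⟨g⁻¹ • a, hb, fun c hc =>
    eq_inv_smul_iff.2 (eq_of_fixed hS hg (conj_ne_one hu1) (conj_smul_of_fixed hc))⟩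

theorem fix_unique (hS : IsRankOneSetup G Ω a t Q) {u : G} (hu1 : u ≠ 1) (hu : u * u = 1)
    {b c : Ω} (hb : u • b = b) (hc : u • c = c) : b = c := by
  obtain ⟨e, _, he⟩ := exists_fix hS hu1 hu
  rw [he b hb, he c hc]

/-- An involution fixing `a` lies in `Q`. -/
theorem mem_Q_of_inv (hS : IsRankOneSetup G Ω a t Q) {u : G} (hu1 : u ≠ 1) (hu : u * u = 1)
    (ha : u • a = a) : u ∈ Q := by
  obtain ⟨g, hg⟩ := exists_conj_mem hS hu
  have hga : g • a = a := eq_of_fixed hS hg (conj_ne_one hu1) (conj_smul_of_fixed ha)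
  have h := hS.conj_mem g⁻¹ (inv_mem (mem_stabilizer_iff.2 hga)) _ hg
  rwa [show g⁻¹ * (g * u * g⁻¹) * g⁻¹⁻¹ = u by group] at h

theorem exists_inv_a (hS : IsRankOneSetup G Ω a t Q) :
    ∃ s ∈ Cfsg.involutionsIn (stabilizer G a : Set G), s ∈ Q := by
  have : Fact (Nat.Prime 2) := ⟨Nat.prime_two⟩
  obtain ⟨s, hs⟩ := exists_prime_orderOf_dvd_card' (G := Q) 2 hS.even_card.two_dvd
  have hs1 : s ≠ 1 := fun h => by rw [h, orderOf_one] at hs; omega
  exact ⟨s, ⟨hS.le s.2, fun h => hs1 (Subtype.ext h),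
    congrArg Subtype.val (Involution.sq_of_orderOf_two hs)⟩, s.2⟩

/-- Two involutions with different fixed points have a product of odd order. -/
theorem odd_orderOf_mul (hS : IsRankOneSetup G Ω a t Q) {u v : G} (hu1 : u ≠ 1) (hu : u * u = 1)
    (hv1 : v ≠ 1) (hv : v * v = 1) {b : Ω} (hub : u • b = b) (hvb : v • b ≠ b) :
    Odd (orderOf (u * v)) := by
  rw [← Nat.not_even_iff_odd]
  intro he
  obtain ⟨hord, hcu, hcv⟩ := Involution.half_power_facts hu hv he
  generalize (u * v) ^ (orderOf (u * v) / 2) = z at hord hcu hcv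
  have hz1 : z ≠ 1 := fun h => by rw [h, orderOf_one] at hord; omega
  have hz : z * z = 1 := Involution.sq_of_orderOf_two hord
  have hzb : z • b = b := by
    refine fix_unique hS hu1 hu ?_ hub
    rw [← mul_smul, ← hcu.eq, mul_smul, hub]
  refine hvb (fix_unique hS hz1 hz ?_ hzb)
  rw [← mul_smul, hcv.eq, mul_smul, hzb]

theorem conj_of_fix_ne (hS : IsRankOneSetup G Ω a t Q) {u v : G} (hu1 : u ≠ 1) (hu : u * u = 1)
    (hv1 : v ≠ 1) (hv : v * v = 1) {b : Ω} (hub : u • b = b) (hvb : v • b ≠ b) :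
    ∃ g : G, g * u * g⁻¹ = v :=
  let ⟨d, _, hd⟩ := Involution.exists_conj_pair_of_odd hu hv
    (odd_orderOf_mul hS hu1 hu hv1 hv hub hvb)
  ⟨d, hd⟩

theorem all_conj (hS : IsRankOneSetup G Ω a t Q) {u v : G} (hu1 : u ≠ 1) (hu : u * u = 1)
    (hv1 : v ≠ 1) (hv : v * v = 1) : ∃ g : G, g * u * g⁻¹ = v := by
  obtain ⟨b, hub, -⟩ := exists_fix hS hu1 hu
  by_cases hvb : v • b = b
  · obtain ⟨c, hcb⟩ : ∃ c, c ≠ b := by
      by_cases h : b = a
      · exact ⟨t • a, by rw [h]; exact ta_ne hS⟩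
      · exact ⟨a, fun e => h e.symm⟩
    obtain ⟨g, hg⟩ := exists_smul hS b c
    have hw : (g * v * g⁻¹) • b ≠ b := fun h => hcb
      (fix_unique hS (conj_ne_one hv1) (conj_mul_self hv)
        (by rw [← hg]; exact conj_smul_of_fixed hvb) h)
    obtain ⟨k, hk⟩ := conj_of_fix_ne hS hu1 hu (conj_ne_one hv1) (conj_mul_self hv) hub hw
    refine ⟨g⁻¹ * k, ?_⟩
    rw [show g⁻¹ * k * u * (g⁻¹ * k)⁻¹ = g⁻¹ * (k * u * k⁻¹) * g by group, hk]; group
  · exact conj_of_fix_ne hS hu1 hu hv1 hv hub hvb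

end Cfsg.Agent.RankOne
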